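import Cfsg.Agent.Lib.Lie.ConwayOneOut.Mats

/-!
The test that a candidate for the image of the two generators breaks a relation.
-/

set_option autoImplicit false
set_option maxRecDepth 100000
set_option Elab.async false

namespace Cfsg.Agent.Lie.ConwayOneOut

open Cfsg Cfsg.Agent.Spor CentralRewrite ConwayZeroMult SuzukiMult

/-- Letters of the inverses. -/
def invL (j : ℕ) : ℕ := [1, 0, 3, 2, 11, 5, 6, 7, 8, 9, 12, 4, 10].getD j j

/-- The word of the inverse. -/
def invW (c : List ℕ) : List ℕ := (c.map invL).reverse

/-- The words substituted for the letters. -/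
def subL (flip : Bool) (c : List ℕ) (j : ℕ) : List ℕ :=
  match j with
  | 0 => bif flip then [1] else [0]
  | 1 => bif flip then [0] else [1]
  | 2 => c
  | _ => invW c

/-- The value on a probe is neither it nor its negative. -/
def moved (w : List ℕ) (q : ℕ) : Bool :=
  forceL (ev oneW w (unitL q)) fun v => !(v == unitL q) && !(v == (unitL q).map fun a => -a)

/-- A candidate breaks a relation. -/
def breaks (flip : Bool) (c : List ℕ) : Bool :=
  attempts.any fun t => moved ((twoRels.getD t.1 ([], [])).1.flatMap (subL flip c)) t.2

/-- The test of a candidate. -/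
def candOK (flip : Bool) (c : List ℕ) : Bool :=
  breaks flip c || (!flip && (eqOK oneW c [2] || eqOK oneW c [13, 2]))

/-- Candidates with the given first part of the word. -/
def block (flip : Bool) (a : ℕ) : Bool :=
  (List.range 2).all fun e => (List.range 11).all fun c =>
    candOK flip (List.replicate a 10 ++ List.replicate e 5 ++ List.replicate c 4)

end Cfsg.Agent.Lie.ConwayOneOut
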