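import Cfsg.Agent.Lib.Lie.ConwayOneOut.Monomial

/-!
The elements of Co0 turning the translation into its square, and the centraliser of the element of order eleven.
-/

set_option autoImplicit false
set_option maxRecDepth 100000

namespace Cfsg.Agent.Lie.ConwayOneOut

open Cfsg Cfsg.Agent.Spor CentralRewrite ConwayZeroMult SuzukiMult

local notation "Zv" => GolayPt → ℤ

theorem e8_map {k : ↥Co0} {σ : Equiv.Perm GolayPt} {w : GolayPt → ZMod 2} (h : MonoAct k σ w) (i : GolayPt) :
    ((k • e8 i : ↥leechLattice) : Zv) = Pi.single (σ i) (if w (σ i) = 0 then 8 else -8) := by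
  rw [h]
  funext p
  obtain ⟨j, rfl⟩ := σ.surjective p
  simp only [sgn, prm, e8, Equiv.symm_apply_apply, Pi.single_apply, σ.injective.eq_iff]
  by_cases hji : j = i
  · subst hji; simp
  · simp [hji]

theorem perm_e8 {k : ↥Co0} {α : Equiv.Perm GolayPt}
    (h : ∀ v : ↥leechLattice, ((k • v : ↥leechLattice) : Zv) = prm α (v : Zv)) (i : GolayPt) : k • e8 i = e8 (α i) := by
  refine Subtype.ext ?_
  rw [h]
  funext p
  obtain ⟨j, rfl⟩ := α.surjective p
  simp [prm, e8, Pi.single_apply]

/-- A signed permutation turning one permutation into another. -/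
theorem turn_form {k a b : ↥Co0} {σ α β : Equiv.Perm GolayPt} {w : GolayPt → ZMod 2} (hk : MonoAct k σ w)
    (ha : ∀ v : ↥leechLattice, ((a • v : ↥leechLattice) : Zv) = prm α (v : Zv))
    (hb : ∀ v : ↥leechLattice, ((b • v : ↥leechLattice) : Zv) = prm β (v : Zv)) (h : k * a = b * k) :
    ∀ i, σ (α i) = β (σ i) ∧ w (β (σ i)) = w (σ i) := by
  intro i
  have e : ((k * a) • e8 i : ↥leechLattice) = (b * k) • e8 i := by rw [h]
  rw [mul_smul, mul_smul, perm_e8 ha] at e
  have e' := congrArg (fun u : ↥leechLattice => (u : Zv) (β (σ i))) e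
  simp only [e8_map hk, hb, prm, Equiv.symm_apply_apply, Pi.single_eq_same] at e'
  have h1 : σ (α i) = β (σ i) := by
    by_contra hne
    rw [Pi.single_eq_of_ne (Ne.symm hne)] at e'
    split_ifs at e' <;> omega
  refine ⟨h1, ?_⟩
  rw [← h1, Pi.single_eq_same] at e'
  rw [← h1]
  rcases word_eq_one_or_zero (w (σ (α i))) with u | u <;> rcases word_eq_one_or_zero (w (σ i)) with v | v <;>
    simp [u, v] at e' ⊢

theorem pow_act {a : ↥Co0} {α : Equiv.Perm GolayPt}
    (h : ∀ v : ↥leechLattice, ((a • v : ↥leechLattice) : Zv) = prm α (v : Zv)) :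
    ∀ (m : ℕ) (v : ↥leechLattice), ((a ^ m • v : ↥leechLattice) : Zv) = prm (α ^ m) (v : Zv) := by
  intro m
  induction m with
  | zero => intro v; rw [pow_zero, pow_zero, one_smul, prm_one']
  | succ m ih => intro v; rw [pow_succ, pow_succ, mul_smul, ih, h]; rfl

variable {g : ℕ → ↥Co0}

theorem shift_norm (hg : Acts oneW g) : g 4 * g 0 = g 0 ^ 2 * g 4 := by
  have h := rel_at hg 32 (by decide +kernel)
  rw [show relsW.getD 32 ([], []) = ([0, 0, 4], [4, 0]) by decide +kernel] at h
  simp only [lval, List.map_cons, List.map_nil, List.prod_cons, List.prod_nil, mul_one, ← mul_assoc] at h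
  rw [pow_two, h]

theorem shift_order (hg : Acts oneW g) : orderOf (g 0) = 23 := by
  haveI : Fact (Nat.Prime 23) := ⟨by norm_num⟩
  refine orderOf_eq_prime (co0_ext fun v => ?_) fun e => ?_
  · rw [pow_act (shift_act hg), one_smul, show genA ^ 23 = 1 by decide +kernel, prm_one']
  · have h := perm_e8 (shift_act hg) (pt 0)
    rw [e, one_smul] at h
    have := congrArg (fun u : ↥leechLattice => (u : Zv) (pt 0)) h
    have hne : genA (pt 0) ≠ pt 0 := by decide +kernel
    simp [e8, Pi.single_apply] at this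
    exact hne this.symm

theorem turn_order (hg : Acts oneW g) : g 4 ^ 11 = 1 := by
  refine co0_ext fun v => ?_
  rw [pow_act (turn_act hg), one_smul, show mulTwo ^ 11 = 1 by decide +kernel, prm_one']

/-- Only the obvious elements turn the translation into its square. -/
theorem norm_cases (hg : Acts oneW g) {k : ↥Co0} (h : k * g 0 = g 0 ^ 2 * k) :
    ∃ (a : ℕ) (z : ↥Co0), z ∈ Subgroup.center ↥Co0 ∧ k = g 4 * g 0 ^ a * z := by
  have hfix : g 0 • e8 none = e8 none := by
    rw [perm_e8 (shift_act hg), show genA none = none by decide +kernel]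
  have h2 : g 0 ^ 2 • (k • e8 none) = k • e8 none := by rw [← mul_smul, ← h, mul_smul, hfix]
  have hpows : ∀ m : ℕ, (g 0 ^ 2) ^ m • (k • e8 none) = k • e8 none := by
    intro m
    induction m with
    | zero => rw [pow_zero, one_smul]
    | succ m ih => rw [pow_succ, mul_smul, h2, ih]
  have hx : g 0 • (k • e8 none) = k • e8 none := by
    have := hpows 12
    have e23 : g 0 ^ 23 = 1 := by rw [← shift_order hg]; exact pow_orderOf_eq_one _
    rwa [← pow_mul, show 2 * 12 = 23 + 1 from rfl, pow_succ, e23, one_mul] at this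
  have hstd : StdStab k := stdStab_iff.2 (shift_fixed (shift_act hg) ((k.2.2 _).trans (e8_norm none)) (by rw [hx]))
  have hn : StdStab (g 4) := mono_std (σ := mulTwo) (w := 0) fun v => by rw [sgn_zero']; exact turn_act hg v
  set u := (g 4)⁻¹ * k with hu
  have hus : StdStab u := mem_monoSub.1 (mul_mem (inv_mem (mem_monoSub.2 hn)) (mem_monoSub.2 hstd))
  have huc : u * g 0 = g 0 * u := by
    have e := shift_norm hg
    calc u * g 0 = (g 4)⁻¹ * (k * g 0) := by rw [hu, mul_assoc]
      _ = (g 4)⁻¹ * (g 0 ^ 2 * g 4) * ((g 4)⁻¹ * k) := by rw [h]; group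
      _ = g 0 * u := by rw [← e, hu]; group
  obtain ⟨σ, -, w, hw, hform⟩ := std_form hus
  have T := turn_form (α := genA) (β := genA) hform (shift_act hg) (shift_act hg) huc
  have hnone : σ none = none := by
    have hall : ∀ p, genA p = p → p = none := by decide +kernel
    refine hall _ ?_
    rw [← (T none).1, show genA none = none by decide +kernel]
  obtain ⟨a, ha⟩ : ∃ a : ℕ, σ (pt 0) = (genA ^ a) (pt 0) := by
    have hne : σ (pt 0) ≠ none := fun e => by
      have := σ.injective (e.trans hnone.symm)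
      exact absurd this (by decide +kernel)
    have hall : ∀ p : GolayPt, p ≠ none → ∃ a : Fin 23, (genA ^ (a : ℕ)) (pt 0) = p := by decide +kernel
    obtain ⟨a, e⟩ := hall _ hne
    exact ⟨a, e.symm⟩
  have hiter : ∀ m : ℕ, σ ((genA ^ m) (pt 0)) = (genA ^ a) ((genA ^ m) (pt 0)) ∧
      w (σ ((genA ^ m) (pt 0))) = w (σ (pt 0)) := by
    intro m
    induction m with
    | zero => exact ⟨by simpa using ha, by simp⟩
    | succ m ih =>
      rw [pow_succ', Equiv.Perm.mul_apply]
      obtain ⟨t1, t2⟩ := T ((genA ^ m) (pt 0))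
      refine ⟨?_, ?_⟩
      · rw [t1, ih.1, ← Equiv.Perm.mul_apply, ← Equiv.Perm.mul_apply, ((Commute.refl genA).pow_right a).eq]; rfl
      · rw [t1, t2, ih.2]
  have hall : ∀ p : GolayPt, p ≠ none → ∃ m : Fin 23, (genA ^ (m : ℕ)) (pt 0) = p := by decide +kernel
  have hσ : σ = genA ^ a := by
    refine Equiv.ext fun p => ?_
    by_cases hp : p = none
    · subst hp
      rw [hnone]
      have : ∀ m : ℕ, (genA ^ m) none = none := fun m => by
        induction m with
        | zero => rfl
        | succ m ih => rw [pow_succ, Equiv.Perm.mul_apply, show genA none = none by decide +kernel, ih]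
      exact (this a).symm
    · obtain ⟨m, rfl⟩ := hall p hp
      exact (hiter m).1
  have hconst : ∀ p, p ≠ none → w p = w (σ (pt 0)) := by
    intro p hp
    obtain ⟨m, hm⟩ := hall (σ.symm p) (fun e => hp (by rw [← σ.apply_symm_apply p, e, hnone]))
    have := (hiter m).2
    rwa [hm, Equiv.apply_symm_apply] at this
  have hcode : ∀ t s : ZMod 2, inCode (wmask fun p => if p = none then t else s) = true → t = s := by decide +kernel
  have hwall : ∀ p, w p = w none := by
    have e : w = fun p => if p = none then w none else w (σ (pt 0)) := funext fun p => by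
      by_cases hp : p = none
      · simp [hp]
      · simp [hp, hconst p hp]
    have hts := hcode _ _ (inCode_complete _ (mem_code.1 (e ▸ hw)))
    intro p
    by_cases hp : p = none
    · rw [hp]
    · rw [hconst p hp, ← hts]
  rcases word_eq_one_or_zero (w none) with hz | hz
  · refine ⟨a, 1, one_mem _, ?_⟩
    have : u = g 0 ^ a := co0_ext fun v => by
      rw [hform, pow_act (shift_act hg), hσ]
      funext p
      simp [sgn, hwall p, hz]
    rw [mul_one, ← this, hu, mul_inv_cancel_left]
  · refine ⟨a, g 13, neg_central hg, ?_⟩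
    have : u = g 0 ^ a * g 13 := co0_ext fun v => by
      rw [hform, Subgroup.mem_center_iff.1 (neg_central hg) (g 0 ^ a), mul_smul, neg_act hg,
        pow_act (shift_act hg), hσ]
      funext p
      simp [sgn, hwall p, hz]
    rw [mul_assoc, ← this, hu, mul_inv_cancel_left]

/-- A vector constant on the orbits of multiplication by two. -/
def patt (a b c d : ℤ) : Zv := fun p =>
  if p = none then d else if p = pt 0 then c
  else bif [1, 2, 3, 4, 6, 8, 9, 12, 13, 16, 18].elem (idx p) then a else b

/-- The frame vector images. -/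
def targets : List (List ℤ) := hW.map fun h => ev oneW h.1 (unitL 23)

/-- The test of a pattern. -/
def pattOK (a b c d : ℤ) : Bool :=
  bif (sqNorm (patt a b c d) == 64) then
    (bif leechCheck (patt a b c d) then targets.elem (rowOf (patt a b c d)) else true) else true

theorem patt_all : ((List.range 5).all fun a => (List.range 5).all fun b => (List.range 17).all fun c =>
    (List.range 17).all fun d => pattOK ((a : ℤ) - 2) ((b : ℤ) - 2) ((c : ℤ) - 8) ((d : ℤ) - 8)) = true := by
  decide +kernel

theorem check_complete {y : Zv} (hy : y ∈ leechLattice) : leechCheck y = true := by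
  obtain ⟨m, h1, h2, h3⟩ := mem_leech.1 hy
  simp only [leechCheck, Bool.and_eq_true, decide_eq_true_eq]
  refine ⟨⟨fun i => by rw [h1, h1], ?_⟩, inCode_complete _ (mem_code.1 h3)⟩
  have := h1 none
  rw [h2]
  omega

theorem fixed_target (hg : Acts oneW g) {y : ↥leechLattice} (hn : sqNorm (y : Zv) = 64) (hfix : g 4 • y = y) :
    rowOf (y : Zv) ∈ targets := by
  have hinv : ∀ p, (y : Zv) (mulTwo p) = (y : Zv) p := fun p => by
    conv_lhs => rw [← hfix, turn_act hg]
    simp [prm]
  have hit : ∀ (m : ℕ) p, (y : Zv) ((mulTwo ^ m) p) = (y : Zv) p := by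
    intro m p
    induction m with
    | zero => rfl
    | succ m ih => rw [pow_succ', Equiv.Perm.mul_apply, hinv, ih]
  have e : (y : Zv) = patt ((y : Zv) (pt 1)) ((y : Zv) (pt 5)) ((y : Zv) (pt 0)) ((y : Zv) none) := by
    have hcl : ∀ p : GolayPt, p ≠ none → p ≠ pt 0 →
        (([1, 2, 3, 4, 6, 8, 9, 12, 13, 16, 18].elem (idx p)) = true ∧ ∃ m : Fin 11, (mulTwo ^ (m : ℕ)) (pt 1) = p) ∨
        (([1, 2, 3, 4, 6, 8, 9, 12, 13, 16, 18].elem (idx p)) = false ∧ ∃ m : Fin 11, (mulTwo ^ (m : ℕ)) (pt 5) = p) := by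
      decide +kernel
    funext p
    by_cases h0 : p = none
    · simp [patt, h0]
    by_cases h1 : p = pt 0
    · simp [patt, h1, show pt 0 ≠ none by decide +kernel]
    rcases hcl p h0 h1 with ⟨hb, m, hm⟩ | ⟨hb, m, hm⟩ <;>
      simp only [patt, h0, h1, hb, if_false, cond_true, cond_false] <;>
      conv_lhs => rw [← hm, hit]
  have hsum : ∀ S : Finset GolayPt, ∑ p ∈ S, (y : Zv) p ^ 2 ≤ 64 := fun S => by
    rw [← hn]
    exact Finset.sum_le_univ_sum_of_nonneg fun p => sq_nonneg _
  have hone : ∀ p, -8 ≤ (y : Zv) p ∧ (y : Zv) p ≤ 8 := fun p => by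
    have := hsum {p}
    rw [Finset.sum_singleton] at this
    constructor <;> nlinarith
  have hcyc : ∀ q : GolayPt, q = pt 1 ∨ q = pt 5 → 11 * (y : Zv) q ^ 2 ≤ 64 := by
    intro q hq
    have hinj : Function.Injective fun m : Fin 11 => (mulTwo ^ (m : ℕ)) q := by
      rcases hq with rfl | rfl <;> (unfold Function.Injective; decide +kernel)
    have := hsum (Finset.univ.map ⟨_, hinj⟩)
    simpa [Finset.sum_map, hit] using this
  have ha := hcyc _ (Or.inl rfl)
  have hb := hcyc _ (Or.inr rfl)
  have hc := hone (pt 0)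
  have hd := hone none
  generalize (y : Zv) (pt 1) = a at e ha
  generalize (y : Zv) (pt 5) = b at e hb
  generalize (y : Zv) (pt 0) = c at e hc
  generalize (y : Zv) none = d at e hd
  have ha' : -2 ≤ a ∧ a ≤ 2 := by constructor <;> nlinarith
  have hb' : -2 ≤ b ∧ b ≤ 2 := by constructor <;> nlinarith
  have key := patt_all
  simp only [List.all_eq_true, List.mem_range] at key
  have k := key (a + 2).toNat (by omega) (b + 2).toNat (by omega) (c + 8).toNat (by omega) (d + 8).toNat (by omega)
  rw [show (((a + 2).toNat : ℕ) : ℤ) - 2 = a by omega, show (((b + 2).toNat : ℕ) : ℤ) - 2 = b by omega,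
    show (((c + 8).toNat : ℕ) : ℤ) - 8 = c by omega, show (((d + 8).toNat : ℕ) : ℤ) - 8 = d by omega] at k
  simp only [pattOK, ← e, hn, check_complete y.2, BEq.rfl, cond_true] at k
  simpa [List.elem_iff] using k

/-- The powers of the exponent. -/
def backExp (s : ℕ) : ℕ := bif Nat.beq s 1 then 1 else 6

/-- The image list of a permutation fixing two points and turning multiplication by two into its power. -/
def sigL (t a b : ℕ) : List ℕ :=
  (List.range 24).map fun p => match (List.range 11).find? (fun m => Nat.beq (2 ^ m % 23) p) with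
    | some m => a * 2 ^ (t * m) % 23
    | none => match (List.range 11).find? (fun m => Nat.beq (5 * 2 ^ m % 23) p) with
      | some m => b * 2 ^ (t * m) % 23
      | none => p

/-- The test of such a list. -/
def sigOK (t a b : ℕ) : Bool :=
  bif codeBasis.all (fun m => inCode (pm (sigL t a b) m 0)) then
    Nat.beq t 1 && (List.range 11).any (fun c => Nat.beq a (2 ^ c % 23) && Nat.beq b (5 * 2 ^ c % 23)) else true

theorem sig_all : ([1, 6].all fun t => (List.range 22).all fun a => (List.range 22).all fun b =>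
    sigOK t (a + 1) (b + 1)) = true := by decide +kernel

theorem sigL_length (t a b : ℕ) : (sigL t a b).length = 24 := by simp [sigL]

/-- The candidates for the centraliser. -/
def centW : List (List ℕ) :=
  (hW.filter fun h => Nat.beq h.2 1).flatMap fun h => (List.range 2).flatMap fun e => (List.range 11).map fun c =>
    h.1 ++ List.replicate e 5 ++ List.replicate c 4

theorem cent_cases (hg : Acts oneW g) {k : ↥Co0} (hk : k * g 4 = g 4 * k) : ∃ c ∈ centW, k = lval g c := by
  have hfix : g 4 • e8 none = e8 none := by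
    rw [perm_e8 (turn_act hg), show mulTwo none = none by decide +kernel]
  have hy := fixed_target hg (y := k • e8 none) ((k.2.2 _).trans (e8_norm none))
    (by rw [← mul_smul, ← hk, mul_smul, hfix])
  obtain ⟨⟨h, s⟩, hh, he⟩ := List.mem_map.1 hy
  have hmeta : ∀ hs ∈ hW, below oneW.length hs.1 = true ∧ (hs.2 = 1 ∨ hs.2 = 2) := by decide +kernel
  obtain ⟨hbelow, hs12⟩ := hmeta _ hh
  have hunit : rowOf (e8 none : Zv) = unitL 23 := by
    show rowOf (Pi.single none 8 : Zv) = _
    decide +kernel
  have hsame : lval g h • e8 none = k • e8 none := Subtype.ext (by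
    rw [← vecOf_rowOf ((lval g h • e8 none : ↥leechLattice) : Zv), lval_row hg h (below_spec hbelow), hunit, he,
      vecOf_rowOf])
  have hnh : SemiconjBy (lval g h) (g 4) (g 4 ^ s) := by
    have := eq_of_check hg (List.all_eq_true.1 hW_turn _ hh)
    rw [lval_append, lval_append, lval_one] at this
    simpa [SemiconjBy, lval, List.map_replicate, List.prod_replicate] using this
  have hback : SemiconjBy (lval g h) (g 4 ^ backExp s) (g 4) := by
    have := hnh.pow_right (backExp s)
    rwa [← pow_mul, pow_eq_pow_mod (s * backExp s) (turn_order hg),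
      show s * backExp s % 11 = 1 by rcases hs12 with rfl | rfl <;> rfl, pow_one] at this
  set u := (lval g h)⁻¹ * k with hu
  have hue : u • e8 none = e8 none := by rw [hu, mul_smul, ← hsame, inv_smul_smul]
  have huc : u * g 4 = g 4 ^ backExp s * u := by
    calc u * g 4 = (lval g h)⁻¹ * (g 4 * k) := by rw [hu, mul_assoc, hk]
      _ = (lval g h)⁻¹ * (g 4 * lval g h) * u := by rw [hu]; group
      _ = g 4 ^ backExp s * u := by rw [← hback.eq, inv_mul_cancel_left]
  have hus : StdStab u := stdStab_iff.2 (by rw [imgCross, hue])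
  obtain ⟨σ, hσ, w, hw, hform⟩ := std_form hus
  set t := backExp s with ht
  have ht16 : t ∈ [1, 6] := by
    rw [ht]; rcases hs12 with e | e <;> simp only at e <;> subst e <;> decide +kernel
  have T := turn_form (β := mulTwo ^ t) hform (turn_act hg) (pow_act (turn_act hg) t) huc
  have hnone : σ none = none ∧ w none = 0 := by
    have := congrArg (fun v : ↥leechLattice => (v : Zv) (σ none)) hue
    simp only [e8_map hform, Pi.single_eq_same] at this
    simp only [e8, Pi.single_apply] at this
    have h1 : σ none = none := by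
      by_contra hne
      simp [hne] at this
      split_ifs at this <;> omega
    refine ⟨h1, ?_⟩
    simp only [h1, if_true] at this
    by_contra hne
    simp [hne] at this
  have h0 : σ (pt 0) = pt 0 := by
    have hall : ∀ t ∈ [1, 6], ∀ p : GolayPt, (mulTwo ^ t) p = p → p = none ∨ p = pt 0 := by decide +kernel
    rcases hall t ht16 (σ (pt 0)) (by rw [← (T (pt 0)).1, show mulTwo (pt 0) = pt 0 by decide +kernel]) with e | e
    · exact absurd (σ.injective (e.trans hnone.1.symm)) (by decide +kernel)
    · exact e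
  have hiter : ∀ (m : ℕ) q, σ ((mulTwo ^ m) q) = (mulTwo ^ (t * m)) (σ q) := by
    intro m q
    induction m with
    | zero => rfl
    | succ m ih => rw [pow_succ', Equiv.Perm.mul_apply, (T _).1, ih, Nat.mul_succ, add_comm, pow_add]; rfl
  have hrange : ∀ q, q ≠ none → q ≠ pt 0 → ∃ a, a < 22 ∧ σ q = pt (a + 1) := by
    intro q q1 q2
    have hq1 : σ q ≠ none := fun e => q1 (σ.injective (e.trans hnone.1.symm))
    have hq2 : σ q ≠ pt 0 := fun e => q2 (σ.injective (e.trans h0.symm))
    have hall : ∀ p : GolayPt, p ≠ none → p ≠ pt 0 → ∃ a : Fin 22, p = pt (a.val + 1) := by decide +kernel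
    obtain ⟨a, e⟩ := hall _ hq1 hq2
    exact ⟨a, a.2, e⟩
  obtain ⟨a, ha, ea⟩ := hrange (pt 1) (by decide +kernel) (by decide +kernel)
  obtain ⟨b, hb, eb⟩ := hrange (pt 5) (by decide +kernel) (by decide +kernel)
  have hrep : Rep σ (sigL t (a + 1) (b + 1)) := by
    have hmul : ∀ (m : Fin 67) (i : Fin 23), (mulTwo ^ (m : ℕ)) (pt i) = pt ((i : ℕ) * 2 ^ (m : ℕ) % 23) := by
      decide +kernel
    have hcl : ∀ p : GolayPt, p = none ∨ p = pt 0 ∨
        (∃ m : Fin 11, (mulTwo ^ (m : ℕ)) (pt 1) = p ∧
          (List.range 11).find? (fun m => Nat.beq (2 ^ m % 23) (idx p)) = some (m : ℕ)) ∨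
        (∃ m : Fin 11, (mulTwo ^ (m : ℕ)) (pt 5) = p ∧
          (List.range 11).find? (fun m => Nat.beq (2 ^ m % 23) (idx p)) = none ∧
          (List.range 11).find? (fun m => Nat.beq (5 * 2 ^ m % 23) (idx p)) = some (m : ℕ)) := by decide +kernel
    have hfix : ∀ p, p = none ∨ p = pt 0 →
        (List.range 11).find? (fun m => Nat.beq (2 ^ m % 23) (idx p)) = none ∧
          (List.range 11).find? (fun m => Nat.beq (5 * 2 ^ m % 23) (idx p)) = none := by decide +kernel
    intro p
    have hget : (sigL t (a + 1) (b + 1)).getD (idx p) 0 = _ :=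
      List.getD_eq_getElem _ _ ((sigL_length t (a + 1) (b + 1)).symm ▸ idx_lt p)
    rw [hget]
    simp only [sigL, List.getElem_map, List.getElem_range]
    have htm : ∀ m : Fin 11, t * (m : ℕ) < 67 := fun m => by
      have : t ≤ 6 := by simp only [List.mem_cons, List.not_mem_nil, or_false] at ht16; omega
      have := m.2
      nlinarith
    rcases hcl p with e | e | ⟨m, hm, hf⟩ | ⟨m, hm, hf1, hf2⟩
    · rw [(hfix p (Or.inl e)).1, (hfix p (Or.inl e)).2]
      subst e
      rw [hnone.1]
    · rw [(hfix p (Or.inr e)).1, (hfix p (Or.inr e)).2]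
      subst e
      rw [h0]
    · rw [hf, ← hm, hiter, ea]
      simp only
      rw [hmul ⟨_, htm m⟩ ⟨a + 1, by omega⟩]
      exact (idx_pt _ (Nat.lt_trans (Nat.mod_lt _ (by norm_num)) (by norm_num))).symm
    · rw [hf1, hf2, ← hm, hiter, eb]
      simp only
      rw [hmul ⟨_, htm m⟩ ⟨b + 1, by omega⟩]
      exact (idx_pt _ (Nat.lt_trans (Nat.mod_lt _ (by norm_num)) (by norm_num))).symm
  have hin : codeBasis.all (fun m => inCode (pm (sigL t (a + 1) (b + 1)) m 0)) = true := by
    rw [List.all_eq_true]
    intro m hm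
    have hlt : ∀ m ∈ codeBasis, m < 2 ^ 24 := by decide +kernel
    have := mem_M24.1 hσ m hm
    rw [hrep.mask_smul, mask_ofMask (hlt m hm), ← pm_eq_pmask (sigL_length _ _ _)] at this
    exact inCode_complete _ this
  have hsig := sig_all
  simp only [List.all_eq_true, List.mem_range] at hsig
  have hs' := hsig t ht16 a ha b hb
  simp only [sigOK, hin, cond_true, Bool.and_eq_true, List.any_eq_true, List.mem_range] at hs'
  obtain ⟨ht1, c, hc, hca, hcb⟩ := hs'
  have t1 : t = 1 := Nat.eq_of_beq_eq_true ht1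
  have hσc : σ = mulTwo ^ c := by
    have hcl : ∀ p : GolayPt, p = none ∨ p = pt 0 ∨ (∃ m : Fin 11, (mulTwo ^ (m : ℕ)) (pt 1) = p) ∨
        ∃ m : Fin 11, (mulTwo ^ (m : ℕ)) (pt 5) = p := by decide +kernel
    have hfc : ∀ c : Fin 11, (mulTwo ^ (c : ℕ)) none = none ∧ (mulTwo ^ (c : ℕ)) (pt 0) = pt 0 ∧
        (mulTwo ^ (c : ℕ)) (pt 1) = pt (2 ^ (c : ℕ) % 23) ∧
        (mulTwo ^ (c : ℕ)) (pt 5) = pt (5 * 2 ^ (c : ℕ) % 23) := by decide +kernel
    obtain ⟨f1, f2, f3, f4⟩ := hfc ⟨c, hc⟩
    refine Equiv.ext fun p => ?_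
    rcases hcl p with rfl | rfl | ⟨m, rfl⟩ | ⟨m, rfl⟩
    · rw [hnone.1, f1]
    · rw [h0, f2]
    · rw [hiter, t1, one_mul, ea, Nat.eq_of_beq_eq_true hca, ← f3, ← Equiv.Perm.mul_apply, ← Equiv.Perm.mul_apply,
        ← pow_add, ← pow_add, add_comm]
    · rw [hiter, t1, one_mul, eb, Nat.eq_of_beq_eq_true hcb, ← f4, ← Equiv.Perm.mul_apply, ← Equiv.Perm.mul_apply,
        ← pow_add, ← pow_add, add_comm]
  have hwinv : ∀ p, w (mulTwo p) = w p := fun p => by
    obtain ⟨q, rfl⟩ := σ.surjective p
    have := (T q).2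
    rwa [t1, pow_one] at this
  have hwit : ∀ (m : ℕ) p, w ((mulTwo ^ m) p) = w p := by
    intro m p
    induction m with
    | zero => rfl
    | succ m ih => rw [pow_succ', Equiv.Perm.mul_apply, hwinv, ih]
  obtain ⟨e, he2, hwe⟩ : ∃ e, e < 2 ∧ w = ofMaskW (bif Nat.beq e 1 then 340831 else 0) := by
    have key : ∀ x y z : ZMod 2, inCode (wmask fun p => if p = none then 0 else if p = pt 0 then z
        else bif [1, 2, 3, 4, 6, 8, 9, 12, 13, 16, 18].elem (idx p) then x else y) = true →
        (fun p => if p = none then 0 else if p = pt 0 then z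
          else bif [1, 2, 3, 4, 6, 8, 9, 12, 13, 16, 18].elem (idx p) then x else y) = ofMaskW 0 ∨
        (fun p => if p = none then 0 else if p = pt 0 then z
          else bif [1, 2, 3, 4, 6, 8, 9, 12, 13, 16, 18].elem (idx p) then x else y) = ofMaskW 340831 := by
      decide +kernel
    have hcl : ∀ p : GolayPt, p ≠ none → p ≠ pt 0 →
        (([1, 2, 3, 4, 6, 8, 9, 12, 13, 16, 18].elem (idx p)) = true ∧ ∃ m : Fin 11, (mulTwo ^ (m : ℕ)) (pt 1) = p) ∨
        (([1, 2, 3, 4, 6, 8, 9, 12, 13, 16, 18].elem (idx p)) = false ∧ ∃ m : Fin 11, (mulTwo ^ (m : ℕ)) (pt 5) = p) := by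
      decide +kernel
    have e : w = fun p => if p = none then 0 else if p = pt 0 then w (pt 0)
        else bif [1, 2, 3, 4, 6, 8, 9, 12, 13, 16, 18].elem (idx p) then w (pt 1) else w (pt 5) := by
      funext p
      by_cases q0 : p = none
      · simp [q0, hnone.2]
      by_cases q1 : p = pt 0
      · simp [q1, show pt 0 ≠ none by decide +kernel]
      rcases hcl p q0 q1 with ⟨hb, m, hm⟩ | ⟨hb, m, hm⟩ <;>
        simp only [q0, q1, hb, if_false, cond_true, cond_false] <;>
        conv_lhs => rw [← hm, hwit]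
    rcases key (w (pt 1)) (w (pt 5)) (w (pt 0)) (inCode_complete _ (mem_code.1 (e ▸ hw))) with h' | h'
    · exact ⟨0, by norm_num, e.trans h'⟩
    · exact ⟨1, by norm_num, e.trans h'⟩
  refine ⟨h ++ List.replicate e 5 ++ List.replicate c 4, ?_, ?_⟩
  · refine List.mem_flatMap.2 ⟨(h, s), List.mem_filter.2 ⟨hh, ?_⟩, List.mem_flatMap.2 ⟨e, List.mem_range.2 he2,
      List.mem_map.2 ⟨c, List.mem_range.2 hc, rfl⟩⟩⟩
    rw [ht] at t1
    rcases hs12 with e' | e' <;> simp only at e' <;> subst e'
    · rfl
    · exact absurd t1 (by decide +kernel)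
  have hu' : u = g 5 ^ e * g 4 ^ c := co0_ext fun v => by
    rw [hform, hσc, hwe, mul_smul]
    interval_cases e
    · simp only [pow_zero, one_smul, pow_act (turn_act hg)]
      show sgn (ofMaskW 0) _ = _
      rw [show ofMaskW 0 = 0 by funext p; simp [ofMaskW], sgn_zero']
    · rw [pow_one, sign_act hg (j := 5) (c := 340831) (by decide +kernel), pow_act (turn_act hg)]
      rfl
  rw [lval_append, lval_append]
  simp only [lval, List.map_replicate, List.prod_replicate] at hu' ⊢
  rw [mul_assoc, ← hu', hu]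
  exact (mul_inv_cancel_left _ _).symm

end Cfsg.Agent.Lie.ConwayOneOut
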