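import Mathlib.Data.Nat.Notation
import Mathlib.Data.Int.Notation

/-!
Automorphisms of the Leech lattice and words between them for the computation of the outer automorphisms of the
first Conway group: a translation of order 23, the element of order eleven normalising it, its centraliser, and
words reaching the monomial group.
-/

set_option autoImplicit false
set_option maxRecDepth 100000

namespace Cfsg.Agent.Lie.ConwayOneOut

/-- a matrix -/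
def mat0 : List (List (ℕ × ℤ)) × List (List (ℕ × ℤ)) :=
  ([[(22, 8)],
      [(0, 8)],
      [(1, 8)],
      [(2, 8)],
      [(3, 8)],
      [(4, 8)],
      [(5, 8)],
      [(6, 8)],
      [(7, 8)],
      [(8, 8)],
      [(9, 8)],
      [(10, 8)],
      [(11, 8)],
      [(12, 8)],
      [(13, 8)],
      [(14, 8)],
      [(15, 8)],
      [(16, 8)],
      [(17, 8)],
      [(18, 8)],
      [(19, 8)],
      [(20, 8)],
      [(21, 8)],
      [(23, 8)]],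
     [[(1, 8)],
      [(2, 8)],
      [(3, 8)],
      [(4, 8)],
      [(5, 8)],
      [(6, 8)],
      [(7, 8)],
      [(8, 8)],
      [(9, 8)],
      [(10, 8)],
      [(11, 8)],
      [(12, 8)],
      [(13, 8)],
      [(14, 8)],
      [(15, 8)],
      [(16, 8)],
      [(17, 8)],
      [(18, 8)],
      [(19, 8)],
      [(20, 8)],
      [(21, 8)],
      [(22, 8)],
      [(0, 8)],
      [(23, 8)]])

/-- a matrix -/
def mat1 : List (List (ℕ × ℤ)) × List (List (ℕ × ℤ)) :=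
  ([[(1, 8)],
      [(2, 8)],
      [(3, 8)],
      [(4, 8)],
      [(5, 8)],
      [(6, 8)],
      [(7, 8)],
      [(8, 8)],
      [(9, 8)],
      [(10, 8)],
      [(11, 8)],
      [(12, 8)],
      [(13, 8)],
      [(14, 8)],
      [(15, 8)],
      [(16, 8)],
      [(17, 8)],
      [(18, 8)],
      [(19, 8)],
      [(20, 8)],
      [(21, 8)],
      [(22, 8)],
      [(0, 8)],
      [(23, 8)]],
     [[(22, 8)],
      [(0, 8)],
      [(1, 8)],
      [(2, 8)],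
      [(3, 8)],
      [(4, 8)],
      [(5, 8)],
      [(6, 8)],
      [(7, 8)],
      [(8, 8)],
      [(9, 8)],
      [(10, 8)],
      [(11, 8)],
      [(12, 8)],
      [(13, 8)],
      [(14, 8)],
      [(15, 8)],
      [(16, 8)],
      [(17, 8)],
      [(18, 8)],
      [(19, 8)],
      [(20, 8)],
      [(21, 8)],
      [(23, 8)]])

/-- a matrix -/
def mat2 : List (List (ℕ × ℤ)) × List (List (ℕ × ℤ)) :=
  ([[(0, 4), (4, (-2)), (1, (-2)), (2, (-2)), (0, (-2)), (2, (-2)), (0, (-2)), (1, (-2)), (1, (-2)), (0, (-2)), (0, (-2)), (0, (-2)), (0, 2)],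
      [(5, (-2)), (0, 4), (0, (-2)), (2, 2), (0, (-2)), (2, 2), (0, (-2)), (1, 2), (1, 2), (0, 2), (0, (-2)), (0, (-2)), (0, (-2))],
      [(5, 2), (1, (-2)), (2, (-2)), (0, 2), (0, 4), (1, (-2)), (0, 2), (1, 2), (1, (-2)), (0, 2), (0, (-2)), (0, (-2)), (0, (-2))],
      [(5, 2), (1, 2), (2, (-2)), (0, 2), (2, 2), (0, (-2)), (1, (-2)), (0, 4), (0, 2), (0, (-2)), (0, (-2)), (0, (-2)), (0, (-2))],
      [(1, 4), (3, (-2)), (1, 2), (2, 2), (0, 2), (2, (-2)), (0, (-2)), (1, 2), (1, (-2)), (0, (-2)), (0, (-2)), (0, 2), (0, (-2))],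
      [(0, 2), (0, (-2)), (0, 2), (0, (-2)), (0, 2), (1, 2), (0, 4), (0, 2), (0, (-2)), (2, 2), (0, 2), (2, (-2)), (1, (-2))],
      [(5, 2), (1, (-2)), (2, 2), (0, (-2)), (1, 4), (0, 2), (0, 2), (1, (-2)), (1, (-2)), (0, (-2)), (0, (-2)), (0, 2), (0, (-2))],
      [(0, 2), (0, 2), (0, 2), (0, 2), (0, (-2)), (1, (-2)), (1, (-2)), (0, 2), (2, 2), (0, 2), (2, (-2)), (1, (-2)), (0, 4)],
      [(2, 4), (2, (-2)), (1, (-2)), (2, (-2)), (0, 2), (2, 2), (0, (-2)), (1, (-2)), (1, (-2)), (0, 2), (0, 2), (0, 2), (0, (-2))],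
      [(5, (-2)), (1, (-2)), (0, 4), (1, 2), (0, 2), (2, (-2)), (0, 2), (1, (-2)), (1, 2), (0, (-2)), (0, 2), (0, (-2)), (0, (-2))],
      [(0, 2), (0, 2), (0, (-2)), (0, 2), (0, 2), (1, (-2)), (1, 2), (0, (-2)), (2, 2), (0, (-2)), (0, 4), (1, 2), (1, (-2))],
      [(0, 2), (0, 2), (0, (-2)), (0, (-2)), (0, 2), (1, (-2)), (1, 2), (0, 2), (2, (-2)), (0, 2), (2, (-2)), (1, 2), (1, 4)],
      [(3, 4), (1, 2), (1, 2), (2, 2), (0, (-2)), (2, (-2)), (0, (-2)), (1, (-2)), (1, (-2)), (0, 2), (0, 2), (0, (-2)), (0, (-2))],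
      [(5, (-2)), (1, 2), (1, 4), (0, (-2)), (0, (-2)), (2, 2), (0, 2), (1, 2), (1, (-2)), (0, (-2)), (0, 2), (0, (-2)), (0, (-2))],
      [(0, 2), (0, 2), (0, 2), (0, 2), (0, 2), (1, 2), (1, (-2)), (0, (-2)), (2, (-2)), (0, (-2)), (1, 4), (0, (-2)), (1, 2)],
      [(0, 2), (0, 2), (0, (-2)), (0, (-2)), (0, (-2)), (1, 2), (1, (-2)), (0, (-2)), (2, 2), (0, 2), (2, 2), (1, 2), (2, 4)],
      [(4, 4), (0, 2), (1, (-2)), (2, (-2)), (0, (-2)), (2, (-2)), (0, (-2)), (1, 2), (1, 2), (0, (-2)), (0, 2), (0, 2), (0, (-2))],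
      [(0, 2), (0, (-2)), (0, 2), (0, (-2)), (0, 2), (1, (-2)), (1, (-2)), (0, 2), (0, 4), (1, 2), (0, (-2)), (2, 2), (1, 2)],
      [(5, (-2)), (1, 2), (2, (-2)), (0, (-2)), (2, (-2)), (0, 2), (0, 4), (0, (-2)), (1, 2), (0, 2), (0, (-2)), (0, 2), (0, (-2))],
      [(0, 2), (0, (-2)), (0, (-2)), (0, 2), (0, (-2)), (1, 2), (1, 2), (0, 2), (2, 2), (0, (-2)), (2, (-2)), (1, 2), (3, 4)],
      [(0, 2), (0, 2), (0, 2), (0, (-2)), (0, (-2)), (0, 4), (0, 2), (1, 2), (0, 2), (2, (-2)), (0, (-2)), (2, 2), (1, (-2))],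
      [(0, 2), (0, (-2)), (0, (-2)), (0, 2), (0, 2), (1, 2), (1, (-2)), (0, 2), (1, 4), (0, (-2)), (0, 2), (2, 2), (1, (-2))],
      [(0, 2), (0, (-2)), (0, 2), (0, 2), (0, (-2)), (1, (-2)), (1, 2), (0, (-2)), (2, (-2)), (0, 2), (2, 2), (0, 4), (0, 2)],
      [(0, (-2)), (0, 2), (0, 2), (0, 2), (0, 2), (1, 2), (1, 2), (0, 2), (2, 2), (0, 2), (2, 2), (1, 2), (4, 4)]],
     [[(0, 4), (4, 2), (1, 2), (2, 2), (0, 2), (2, 2), (0, 2), (1, 2), (1, 2), (0, 2), (0, 2), (0, 2), (0, (-2))],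
      [(4, 4), (0, (-2)), (1, 2), (2, 2), (0, 2), (2, 2), (0, 2), (1, (-2)), (1, (-2)), (0, 2), (0, (-2)), (0, (-2)), (0, 2)],
      [(5, 2), (1, 2), (0, 4), (1, (-2)), (0, (-2)), (2, 2), (0, (-2)), (1, 2), (1, (-2)), (0, 2), (0, (-2)), (0, 2), (0, 2)],
      [(5, (-2)), (1, 2), (2, 2), (0, (-2)), (0, 4), (1, 2), (0, (-2)), (1, (-2)), (1, 2), (0, (-2)), (0, 2), (0, 2), (0, 2)],
      [(5, 2), (1, (-2)), (2, 2), (0, 2), (2, 2), (0, (-2)), (0, 4), (0, 2), (1, (-2)), (0, (-2)), (0, 2), (0, (-2)), (0, 2)],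
      [(0, (-2)), (0, (-2)), (0, 2), (0, 2), (0, (-2)), (1, 2), (1, (-2)), (0, (-2)), (2, 2), (0, (-2)), (2, 2), (1, (-2)), (1, 4)],
      [(1, 4), (3, 2), (1, (-2)), (2, (-2)), (0, (-2)), (2, 2), (0, 2), (1, (-2)), (1, 2), (0, 2), (0, 2), (0, (-2)), (0, 2)],
      [(0, (-2)), (0, (-2)), (0, (-2)), (0, 2), (0, 2), (0, 4), (0, (-2)), (1, (-2)), (0, (-2)), (2, 2), (0, 2), (2, (-2)), (1, 2)],
      [(5, 2), (1, (-2)), (1, 4), (0, 2), (0, 2), (2, (-2)), (0, (-2)), (1, (-2)), (1, 2), (0, 2), (0, (-2)), (0, 2), (0, 2)],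
      [(5, (-2)), (1, 2), (2, (-2)), (0, 2), (1, 4), (0, (-2)), (0, (-2)), (1, 2), (1, 2), (0, 2), (0, 2), (0, (-2)), (0, 2)],
      [(0, (-2)), (0, 2), (0, (-2)), (0, (-2)), (0, 2), (1, 2), (1, (-2)), (0, 2), (2, 2), (0, (-2)), (2, (-2)), (0, 4), (0, (-2))],
      [(0, (-2)), (0, (-2)), (0, 2), (0, 2), (0, 2), (1, (-2)), (1, 2), (0, 2), (2, (-2)), (0, (-2)), (2, (-2)), (1, (-2)), (2, 4)],
      [(2, 4), (2, 2), (1, 2), (2, 2), (0, (-2)), (2, (-2)), (0, 2), (1, 2), (1, 2), (0, (-2)), (0, (-2)), (0, (-2)), (0, 2)],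
      [(5, 2), (0, 4), (0, 2), (2, (-2)), (0, 2), (2, (-2)), (0, 2), (1, (-2)), (1, (-2)), (0, (-2)), (0, 2), (0, 2), (0, 2)],
      [(0, (-2)), (0, 2), (0, (-2)), (0, 2), (0, (-2)), (1, 2), (1, 2), (0, (-2)), (0, 4), (1, (-2)), (0, 2), (2, (-2)), (1, (-2))],
      [(0, (-2)), (0, (-2)), (0, 2), (0, (-2)), (0, (-2)), (1, 2), (1, (-2)), (0, 2), (2, (-2)), (0, 2), (0, 4), (1, (-2)), (1, 2)],
      [(5, (-2)), (1, (-2)), (2, 2), (0, (-2)), (2, (-2)), (0, 2), (1, 2), (0, 4), (0, (-2)), (0, 2), (0, 2), (0, 2), (0, 2)],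
      [(0, (-2)), (0, 2), (0, 2), (0, (-2)), (0, 2), (1, (-2)), (1, (-2)), (0, (-2)), (2, (-2)), (0, 2), (2, 2), (1, (-2)), (3, 4)],
      [(3, 4), (1, (-2)), (1, (-2)), (2, (-2)), (0, 2), (2, 2), (0, 2), (1, 2), (1, 2), (0, (-2)), (0, (-2)), (0, 2), (0, 2)],
      [(0, (-2)), (0, 2), (0, (-2)), (0, 2), (0, (-2)), (1, (-2)), (0, 4), (0, (-2)), (0, 2), (2, (-2)), (0, (-2)), (2, 2), (1, 2)],
      [(0, (-2)), (0, 2), (0, 2), (0, (-2)), (0, (-2)), (1, (-2)), (1, 2), (0, (-2)), (1, 4), (0, 2), (0, (-2)), (2, (-2)), (1, 2)],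
      [(0, (-2)), (0, (-2)), (0, (-2)), (0, (-2)), (0, (-2)), (1, (-2)), (1, 2), (0, 2), (2, 2), (0, 2), (1, 4), (0, 2), (1, (-2))],
      [(0, (-2)), (0, (-2)), (0, (-2)), (0, (-2)), (0, 2), (1, 2), (1, 2), (0, (-2)), (2, (-2)), (0, (-2)), (2, 2), (1, 2), (0, 4)],
      [(0, 2), (0, (-2)), (0, (-2)), (0, (-2)), (0, (-2)), (1, (-2)), (1, (-2)), (0, (-2)), (2, (-2)), (0, (-2)), (2, (-2)), (1, (-2)), (4, 4)]])

/-- a matrix -/
def mat3 : List (List (ℕ × ℤ)) × List (List (ℕ × ℤ)) :=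
  ([[(0, 4), (4, 2), (1, 2), (2, 2), (0, 2), (2, 2), (0, 2), (1, 2), (1, 2), (0, 2), (0, 2), (0, 2), (0, (-2))],
      [(4, 4), (0, (-2)), (1, 2), (2, 2), (0, 2), (2, 2), (0, 2), (1, (-2)), (1, (-2)), (0, 2), (0, (-2)), (0, (-2)), (0, 2)],
      [(5, 2), (1, 2), (0, 4), (1, (-2)), (0, (-2)), (2, 2), (0, (-2)), (1, 2), (1, (-2)), (0, 2), (0, (-2)), (0, 2), (0, 2)],
      [(5, (-2)), (1, 2), (2, 2), (0, (-2)), (0, 4), (1, 2), (0, (-2)), (1, (-2)), (1, 2), (0, (-2)), (0, 2), (0, 2), (0, 2)],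
      [(5, 2), (1, (-2)), (2, 2), (0, 2), (2, 2), (0, (-2)), (0, 4), (0, 2), (1, (-2)), (0, (-2)), (0, 2), (0, (-2)), (0, 2)],
      [(0, (-2)), (0, (-2)), (0, 2), (0, 2), (0, (-2)), (1, 2), (1, (-2)), (0, (-2)), (2, 2), (0, (-2)), (2, 2), (1, (-2)), (1, 4)],
      [(1, 4), (3, 2), (1, (-2)), (2, (-2)), (0, (-2)), (2, 2), (0, 2), (1, (-2)), (1, 2), (0, 2), (0, 2), (0, (-2)), (0, 2)],
      [(0, (-2)), (0, (-2)), (0, (-2)), (0, 2), (0, 2), (0, 4), (0, (-2)), (1, (-2)), (0, (-2)), (2, 2), (0, 2), (2, (-2)), (1, 2)],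
      [(5, 2), (1, (-2)), (1, 4), (0, 2), (0, 2), (2, (-2)), (0, (-2)), (1, (-2)), (1, 2), (0, 2), (0, (-2)), (0, 2), (0, 2)],
      [(5, (-2)), (1, 2), (2, (-2)), (0, 2), (1, 4), (0, (-2)), (0, (-2)), (1, 2), (1, 2), (0, 2), (0, 2), (0, (-2)), (0, 2)],
      [(0, (-2)), (0, 2), (0, (-2)), (0, (-2)), (0, 2), (1, 2), (1, (-2)), (0, 2), (2, 2), (0, (-2)), (2, (-2)), (0, 4), (0, (-2))],
      [(0, (-2)), (0, (-2)), (0, 2), (0, 2), (0, 2), (1, (-2)), (1, 2), (0, 2), (2, (-2)), (0, (-2)), (2, (-2)), (1, (-2)), (2, 4)],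
      [(2, 4), (2, 2), (1, 2), (2, 2), (0, (-2)), (2, (-2)), (0, 2), (1, 2), (1, 2), (0, (-2)), (0, (-2)), (0, (-2)), (0, 2)],
      [(5, 2), (0, 4), (0, 2), (2, (-2)), (0, 2), (2, (-2)), (0, 2), (1, (-2)), (1, (-2)), (0, (-2)), (0, 2), (0, 2), (0, 2)],
      [(0, (-2)), (0, 2), (0, (-2)), (0, 2), (0, (-2)), (1, 2), (1, 2), (0, (-2)), (0, 4), (1, (-2)), (0, 2), (2, (-2)), (1, (-2))],
      [(0, (-2)), (0, (-2)), (0, 2), (0, (-2)), (0, (-2)), (1, 2), (1, (-2)), (0, 2), (2, (-2)), (0, 2), (0, 4), (1, (-2)), (1, 2)],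
      [(5, (-2)), (1, (-2)), (2, 2), (0, (-2)), (2, (-2)), (0, 2), (1, 2), (0, 4), (0, (-2)), (0, 2), (0, 2), (0, 2), (0, 2)],
      [(0, (-2)), (0, 2), (0, 2), (0, (-2)), (0, 2), (1, (-2)), (1, (-2)), (0, (-2)), (2, (-2)), (0, 2), (2, 2), (1, (-2)), (3, 4)],
      [(3, 4), (1, (-2)), (1, (-2)), (2, (-2)), (0, 2), (2, 2), (0, 2), (1, 2), (1, 2), (0, (-2)), (0, (-2)), (0, 2), (0, 2)],
      [(0, (-2)), (0, 2), (0, (-2)), (0, 2), (0, (-2)), (1, (-2)), (0, 4), (0, (-2)), (0, 2), (2, (-2)), (0, (-2)), (2, 2), (1, 2)],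
      [(0, (-2)), (0, 2), (0, 2), (0, (-2)), (0, (-2)), (1, (-2)), (1, 2), (0, (-2)), (1, 4), (0, 2), (0, (-2)), (2, (-2)), (1, 2)],
      [(0, (-2)), (0, (-2)), (0, (-2)), (0, (-2)), (0, (-2)), (1, (-2)), (1, 2), (0, 2), (2, 2), (0, 2), (1, 4), (0, 2), (1, (-2))],
      [(0, (-2)), (0, (-2)), (0, (-2)), (0, (-2)), (0, 2), (1, 2), (1, 2), (0, (-2)), (2, (-2)), (0, (-2)), (2, 2), (1, 2), (0, 4)],
      [(0, 2), (0, (-2)), (0, (-2)), (0, (-2)), (0, (-2)), (1, (-2)), (1, (-2)), (0, (-2)), (2, (-2)), (0, (-2)), (2, (-2)), (1, (-2)), (4, 4)]],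
     [[(0, 4), (4, (-2)), (1, (-2)), (2, (-2)), (0, (-2)), (2, (-2)), (0, (-2)), (1, (-2)), (1, (-2)), (0, (-2)), (0, (-2)), (0, (-2)), (0, 2)],
      [(5, (-2)), (0, 4), (0, (-2)), (2, 2), (0, (-2)), (2, 2), (0, (-2)), (1, 2), (1, 2), (0, 2), (0, (-2)), (0, (-2)), (0, (-2))],
      [(5, 2), (1, (-2)), (2, (-2)), (0, 2), (0, 4), (1, (-2)), (0, 2), (1, 2), (1, (-2)), (0, 2), (0, (-2)), (0, (-2)), (0, (-2))],
      [(5, 2), (1, 2), (2, (-2)), (0, 2), (2, 2), (0, (-2)), (1, (-2)), (0, 4), (0, 2), (0, (-2)), (0, (-2)), (0, (-2)), (0, (-2))],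
      [(1, 4), (3, (-2)), (1, 2), (2, 2), (0, 2), (2, (-2)), (0, (-2)), (1, 2), (1, (-2)), (0, (-2)), (0, (-2)), (0, 2), (0, (-2))],
      [(0, 2), (0, (-2)), (0, 2), (0, (-2)), (0, 2), (1, 2), (0, 4), (0, 2), (0, (-2)), (2, 2), (0, 2), (2, (-2)), (1, (-2))],
      [(5, 2), (1, (-2)), (2, 2), (0, (-2)), (1, 4), (0, 2), (0, 2), (1, (-2)), (1, (-2)), (0, (-2)), (0, (-2)), (0, 2), (0, (-2))],
      [(0, 2), (0, 2), (0, 2), (0, 2), (0, (-2)), (1, (-2)), (1, (-2)), (0, 2), (2, 2), (0, 2), (2, (-2)), (1, (-2)), (0, 4)],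
      [(2, 4), (2, (-2)), (1, (-2)), (2, (-2)), (0, 2), (2, 2), (0, (-2)), (1, (-2)), (1, (-2)), (0, 2), (0, 2), (0, 2), (0, (-2))],
      [(5, (-2)), (1, (-2)), (0, 4), (1, 2), (0, 2), (2, (-2)), (0, 2), (1, (-2)), (1, 2), (0, (-2)), (0, 2), (0, (-2)), (0, (-2))],
      [(0, 2), (0, 2), (0, (-2)), (0, 2), (0, 2), (1, (-2)), (1, 2), (0, (-2)), (2, 2), (0, (-2)), (0, 4), (1, 2), (1, (-2))],
      [(0, 2), (0, 2), (0, (-2)), (0, (-2)), (0, 2), (1, (-2)), (1, 2), (0, 2), (2, (-2)), (0, 2), (2, (-2)), (1, 2), (1, 4)],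
      [(3, 4), (1, 2), (1, 2), (2, 2), (0, (-2)), (2, (-2)), (0, (-2)), (1, (-2)), (1, (-2)), (0, 2), (0, 2), (0, (-2)), (0, (-2))],
      [(5, (-2)), (1, 2), (1, 4), (0, (-2)), (0, (-2)), (2, 2), (0, 2), (1, 2), (1, (-2)), (0, (-2)), (0, 2), (0, (-2)), (0, (-2))],
      [(0, 2), (0, 2), (0, 2), (0, 2), (0, 2), (1, 2), (1, (-2)), (0, (-2)), (2, (-2)), (0, (-2)), (1, 4), (0, (-2)), (1, 2)],
      [(0, 2), (0, 2), (0, (-2)), (0, (-2)), (0, (-2)), (1, 2), (1, (-2)), (0, (-2)), (2, 2), (0, 2), (2, 2), (1, 2), (2, 4)],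
      [(4, 4), (0, 2), (1, (-2)), (2, (-2)), (0, (-2)), (2, (-2)), (0, (-2)), (1, 2), (1, 2), (0, (-2)), (0, 2), (0, 2), (0, (-2))],
      [(0, 2), (0, (-2)), (0, 2), (0, (-2)), (0, 2), (1, (-2)), (1, (-2)), (0, 2), (0, 4), (1, 2), (0, (-2)), (2, 2), (1, 2)],
      [(5, (-2)), (1, 2), (2, (-2)), (0, (-2)), (2, (-2)), (0, 2), (0, 4), (0, (-2)), (1, 2), (0, 2), (0, (-2)), (0, 2), (0, (-2))],
      [(0, 2), (0, (-2)), (0, (-2)), (0, 2), (0, (-2)), (1, 2), (1, 2), (0, 2), (2, 2), (0, (-2)), (2, (-2)), (1, 2), (3, 4)],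
      [(0, 2), (0, 2), (0, 2), (0, (-2)), (0, (-2)), (0, 4), (0, 2), (1, 2), (0, 2), (2, (-2)), (0, (-2)), (2, 2), (1, (-2))],
      [(0, 2), (0, (-2)), (0, (-2)), (0, 2), (0, 2), (1, 2), (1, (-2)), (0, 2), (1, 4), (0, (-2)), (0, 2), (2, 2), (1, (-2))],
      [(0, 2), (0, (-2)), (0, 2), (0, 2), (0, (-2)), (1, (-2)), (1, 2), (0, (-2)), (2, (-2)), (0, 2), (2, 2), (0, 4), (0, 2)],
      [(0, (-2)), (0, 2), (0, 2), (0, 2), (0, 2), (1, 2), (1, 2), (0, 2), (2, 2), (0, 2), (2, 2), (1, 2), (4, 4)]])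

/-- a matrix -/
def mat4 : List (List (ℕ × ℤ)) × List (List (ℕ × ℤ)) :=
  ([[(0, 8)],
      [(12, 8)],
      [(1, 8)],
      [(13, 8)],
      [(2, 8)],
      [(14, 8)],
      [(3, 8)],
      [(15, 8)],
      [(4, 8)],
      [(16, 8)],
      [(5, 8)],
      [(17, 8)],
      [(6, 8)],
      [(18, 8)],
      [(7, 8)],
      [(19, 8)],
      [(8, 8)],
      [(20, 8)],
      [(9, 8)],
      [(21, 8)],
      [(10, 8)],
      [(22, 8)],
      [(11, 8)],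
      [(23, 8)]],
     [[(0, 8)],
      [(2, 8)],
      [(4, 8)],
      [(6, 8)],
      [(8, 8)],
      [(10, 8)],
      [(12, 8)],
      [(14, 8)],
      [(16, 8)],
      [(18, 8)],
      [(20, 8)],
      [(22, 8)],
      [(1, 8)],
      [(3, 8)],
      [(5, 8)],
      [(7, 8)],
      [(9, 8)],
      [(11, 8)],
      [(13, 8)],
      [(15, 8)],
      [(17, 8)],
      [(19, 8)],
      [(21, 8)],
      [(23, 8)]])

/-- a matrix -/
def mat5 : List (List (ℕ × ℤ)) × List (List (ℕ × ℤ)) :=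
  ([[(0, (-8))],
      [(1, (-8))],
      [(2, (-8))],
      [(3, (-8))],
      [(4, (-8))],
      [(5, 8)],
      [(6, (-8))],
      [(7, 8)],
      [(8, (-8))],
      [(9, (-8))],
      [(10, 8)],
      [(11, 8)],
      [(12, (-8))],
      [(13, (-8))],
      [(14, 8)],
      [(15, 8)],
      [(16, (-8))],
      [(17, 8)],
      [(18, (-8))],
      [(19, 8)],
      [(20, 8)],
      [(21, 8)],
      [(22, 8)],
      [(23, 8)]],
     [[(0, (-8))],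
      [(1, (-8))],
      [(2, (-8))],
      [(3, (-8))],
      [(4, (-8))],
      [(5, 8)],
      [(6, (-8))],
      [(7, 8)],
      [(8, (-8))],
      [(9, (-8))],
      [(10, 8)],
      [(11, 8)],
      [(12, (-8))],
      [(13, (-8))],
      [(14, 8)],
      [(15, 8)],
      [(16, (-8))],
      [(17, 8)],
      [(18, (-8))],
      [(19, 8)],
      [(20, 8)],
      [(21, 8)],
      [(22, 8)],
      [(23, 8)]])

/-- a matrix -/
def mat6 : List (List (ℕ × ℤ)) × List (List (ℕ × ℤ)) :=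
  ([[(23, 8)],
      [(11, 8)],
      [(14, 8)],
      [(15, 8)],
      [(22, 8)],
      [(16, (-8))],
      [(17, 8)],
      [(8, (-8))],
      [(5, 8)],
      [(10, 8)],
      [(12, (-8))],
      [(18, (-8))],
      [(7, 8)],
      [(20, 8)],
      [(6, (-8))],
      [(3, (-8))],
      [(21, 8)],
      [(1, (-8))],
      [(19, 8)],
      [(4, (-8))],
      [(9, (-8))],
      [(13, (-8))],
      [(2, (-8))],
      [(0, (-8))]],
     [[(23, (-8))],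
      [(17, (-8))],
      [(22, (-8))],
      [(15, (-8))],
      [(19, (-8))],
      [(8, 8)],
      [(14, (-8))],
      [(12, 8)],
      [(7, (-8))],
      [(20, (-8))],
      [(9, 8)],
      [(1, 8)],
      [(10, (-8))],
      [(21, (-8))],
      [(2, 8)],
      [(3, 8)],
      [(5, (-8))],
      [(6, 8)],
      [(11, (-8))],
      [(18, 8)],
      [(13, 8)],
      [(16, 8)],
      [(4, 8)],
      [(0, 8)]])

/-- a matrix -/
def mat7 : List (List (ℕ × ℤ)) × List (List (ℕ × ℤ)) :=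
  ([[(22, 8)],
      [(3, 8)],
      [(19, (-8))],
      [(11, 8)],
      [(13, (-8))],
      [(15, (-8))],
      [(5, (-8))],
      [(2, (-8))],
      [(1, 8)],
      [(4, 8)],
      [(20, 8)],
      [(6, (-8))],
      [(16, (-8))],
      [(21, 8)],
      [(0, (-8))],
      [(10, 8)],
      [(12, 8)],
      [(14, 8)],
      [(23, 8)],
      [(8, (-8))],
      [(7, 8)],
      [(9, (-8))],
      [(18, (-8))],
      [(17, (-8))]],
     [[(14, (-8))],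
      [(8, 8)],
      [(7, (-8))],
      [(1, 8)],
      [(9, 8)],
      [(6, (-8))],
      [(11, (-8))],
      [(20, 8)],
      [(19, (-8))],
      [(21, (-8))],
      [(15, 8)],
      [(3, 8)],
      [(16, 8)],
      [(4, (-8))],
      [(17, 8)],
      [(5, (-8))],
      [(12, (-8))],
      [(23, (-8))],
      [(22, (-8))],
      [(2, (-8))],
      [(10, 8)],
      [(13, 8)],
      [(0, 8)],
      [(18, 8)]])

/-- a matrix -/
def mat8 : List (List (ℕ × ℤ)) × List (List (ℕ × ℤ)) :=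
  ([[(7, (-8))],
      [(19, 8)],
      [(14, (-8))],
      [(10, 8)],
      [(11, (-8))],
      [(21, (-8))],
      [(4, 8)],
      [(9, (-8))],
      [(3, 8)],
      [(2, (-8))],
      [(17, 8)],
      [(18, 8)],
      [(8, 8)],
      [(20, (-8))],
      [(12, 8)],
      [(23, 8)],
      [(1, (-8))],
      [(0, (-8))],
      [(16, 8)],
      [(15, (-8))],
      [(13, (-8))],
      [(5, 8)],
      [(6, (-8))],
      [(22, 8)]],
     [[(17, (-8))],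
      [(16, (-8))],
      [(9, (-8))],
      [(8, 8)],
      [(6, 8)],
      [(21, 8)],
      [(22, (-8))],
      [(0, (-8))],
      [(12, 8)],
      [(7, (-8))],
      [(3, 8)],
      [(4, (-8))],
      [(14, 8)],
      [(20, (-8))],
      [(2, (-8))],
      [(19, (-8))],
      [(18, 8)],
      [(10, 8)],
      [(11, 8)],
      [(1, 8)],
      [(13, (-8))],
      [(5, (-8))],
      [(23, 8)],
      [(15, 8)]])

/-- a matrix -/
def mat9 : List (List (ℕ × ℤ)) × List (List (ℕ × ℤ)) :=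
  ([[(11, (-8))],
      [(9, (-8))],
      [(18, (-8))],
      [(16, 8)],
      [(12, 8)],
      [(19, 8)],
      [(21, (-8))],
      [(0, (-8))],
      [(1, 8)],
      [(14, (-8))],
      [(6, 8)],
      [(8, (-8))],
      [(5, 8)],
      [(17, (-8))],
      [(4, (-8))],
      [(15, (-8))],
      [(13, 8)],
      [(20, 8)],
      [(22, 8)],
      [(2, 8)],
      [(3, (-8))],
      [(10, (-8))],
      [(23, 8)],
      [(7, 8)]],
     [[(7, (-8))],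
      [(8, 8)],
      [(19, 8)],
      [(20, (-8))],
      [(14, (-8))],
      [(12, 8)],
      [(10, 8)],
      [(23, 8)],
      [(11, (-8))],
      [(1, (-8))],
      [(21, (-8))],
      [(0, (-8))],
      [(4, 8)],
      [(16, 8)],
      [(9, (-8))],
      [(15, (-8))],
      [(3, 8)],
      [(13, (-8))],
      [(2, (-8))],
      [(5, 8)],
      [(17, 8)],
      [(6, (-8))],
      [(18, 8)],
      [(22, 8)]])

/-- a matrix -/
def mat10 : List (List (ℕ × ℤ)) × List (List (ℕ × ℤ)) :=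
  ([[(0, 4), (4, 2), (1, 2), (2, 2), (0, 2), (2, 2), (0, 2), (1, 2), (1, 2), (0, 2), (0, 2), (0, 2), (0, (-2))],
      [(1, 4), (3, 2), (1, (-2)), (2, (-2)), (0, (-2)), (2, 2), (0, 2), (1, (-2)), (1, 2), (0, 2), (0, 2), (0, (-2)), (0, 2)],
      [(2, 4), (2, 2), (1, 2), (2, 2), (0, (-2)), (2, (-2)), (0, 2), (1, 2), (1, 2), (0, (-2)), (0, (-2)), (0, (-2)), (0, 2)],
      [(3, 4), (1, (-2)), (1, (-2)), (2, (-2)), (0, 2), (2, 2), (0, 2), (1, 2), (1, 2), (0, (-2)), (0, (-2)), (0, 2), (0, 2)],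
      [(4, 4), (0, (-2)), (1, 2), (2, 2), (0, 2), (2, 2), (0, 2), (1, (-2)), (1, (-2)), (0, 2), (0, (-2)), (0, (-2)), (0, 2)],
      [(0, (-2)), (0, (-2)), (0, (-2)), (0, 2), (0, 2), (0, 4), (0, (-2)), (1, (-2)), (0, (-2)), (2, 2), (0, 2), (2, (-2)), (1, 2)],
      [(5, 2), (0, 4), (0, 2), (2, (-2)), (0, 2), (2, (-2)), (0, 2), (1, (-2)), (1, (-2)), (0, (-2)), (0, 2), (0, 2), (0, 2)],
      [(0, (-2)), (0, 2), (0, (-2)), (0, 2), (0, (-2)), (1, (-2)), (0, 4), (0, (-2)), (0, 2), (2, (-2)), (0, (-2)), (2, 2), (1, 2)],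
      [(5, 2), (1, 2), (0, 4), (1, (-2)), (0, (-2)), (2, 2), (0, (-2)), (1, 2), (1, (-2)), (0, 2), (0, (-2)), (0, 2), (0, 2)],
      [(5, 2), (1, (-2)), (1, 4), (0, 2), (0, 2), (2, (-2)), (0, (-2)), (1, (-2)), (1, 2), (0, 2), (0, (-2)), (0, 2), (0, 2)],
      [(0, (-2)), (0, 2), (0, (-2)), (0, 2), (0, (-2)), (1, 2), (1, 2), (0, (-2)), (0, 4), (1, (-2)), (0, 2), (2, (-2)), (1, (-2))],
      [(0, (-2)), (0, 2), (0, 2), (0, (-2)), (0, (-2)), (1, (-2)), (1, 2), (0, (-2)), (1, 4), (0, 2), (0, (-2)), (2, (-2)), (1, 2)],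
      [(5, (-2)), (1, 2), (2, 2), (0, (-2)), (0, 4), (1, 2), (0, (-2)), (1, (-2)), (1, 2), (0, (-2)), (0, 2), (0, 2), (0, 2)],
      [(5, (-2)), (1, 2), (2, (-2)), (0, 2), (1, 4), (0, (-2)), (0, (-2)), (1, 2), (1, 2), (0, 2), (0, 2), (0, (-2)), (0, 2)],
      [(0, (-2)), (0, (-2)), (0, 2), (0, (-2)), (0, (-2)), (1, 2), (1, (-2)), (0, 2), (2, (-2)), (0, 2), (0, 4), (1, (-2)), (1, 2)],
      [(0, (-2)), (0, (-2)), (0, (-2)), (0, (-2)), (0, (-2)), (1, (-2)), (1, 2), (0, 2), (2, 2), (0, 2), (1, 4), (0, 2), (1, (-2))],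
      [(5, 2), (1, (-2)), (2, 2), (0, 2), (2, 2), (0, (-2)), (0, 4), (0, 2), (1, (-2)), (0, (-2)), (0, 2), (0, (-2)), (0, 2)],
      [(0, (-2)), (0, 2), (0, (-2)), (0, (-2)), (0, 2), (1, 2), (1, (-2)), (0, 2), (2, 2), (0, (-2)), (2, (-2)), (0, 4), (0, (-2))],
      [(5, (-2)), (1, (-2)), (2, 2), (0, (-2)), (2, (-2)), (0, 2), (1, 2), (0, 4), (0, (-2)), (0, 2), (0, 2), (0, 2), (0, 2)],
      [(0, (-2)), (0, (-2)), (0, (-2)), (0, (-2)), (0, 2), (1, 2), (1, 2), (0, (-2)), (2, (-2)), (0, (-2)), (2, 2), (1, 2), (0, 4)],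
      [(0, (-2)), (0, (-2)), (0, 2), (0, 2), (0, (-2)), (1, 2), (1, (-2)), (0, (-2)), (2, 2), (0, (-2)), (2, 2), (1, (-2)), (1, 4)],
      [(0, (-2)), (0, (-2)), (0, 2), (0, 2), (0, 2), (1, (-2)), (1, 2), (0, 2), (2, (-2)), (0, (-2)), (2, (-2)), (1, (-2)), (2, 4)],
      [(0, (-2)), (0, 2), (0, 2), (0, (-2)), (0, 2), (1, (-2)), (1, (-2)), (0, (-2)), (2, (-2)), (0, 2), (2, 2), (1, (-2)), (3, 4)],
      [(0, 2), (0, (-2)), (0, (-2)), (0, (-2)), (0, (-2)), (1, (-2)), (1, (-2)), (0, (-2)), (2, (-2)), (0, (-2)), (2, (-2)), (1, (-2)), (4, 4)]],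
     [[(0, 4), (4, (-2)), (1, (-2)), (2, (-2)), (0, (-2)), (2, (-2)), (0, (-2)), (1, (-2)), (1, (-2)), (0, (-2)), (0, (-2)), (0, (-2)), (0, 2)],
      [(1, 4), (3, (-2)), (1, 2), (2, 2), (0, 2), (2, (-2)), (0, (-2)), (1, 2), (1, (-2)), (0, (-2)), (0, (-2)), (0, 2), (0, (-2))],
      [(2, 4), (2, (-2)), (1, (-2)), (2, (-2)), (0, 2), (2, 2), (0, (-2)), (1, (-2)), (1, (-2)), (0, 2), (0, 2), (0, 2), (0, (-2))],
      [(3, 4), (1, 2), (1, 2), (2, 2), (0, (-2)), (2, (-2)), (0, (-2)), (1, (-2)), (1, (-2)), (0, 2), (0, 2), (0, (-2)), (0, (-2))],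
      [(4, 4), (0, 2), (1, (-2)), (2, (-2)), (0, (-2)), (2, (-2)), (0, (-2)), (1, 2), (1, 2), (0, (-2)), (0, 2), (0, 2), (0, (-2))],
      [(0, 2), (0, 2), (0, 2), (0, (-2)), (0, (-2)), (0, 4), (0, 2), (1, 2), (0, 2), (2, (-2)), (0, (-2)), (2, 2), (1, (-2))],
      [(5, (-2)), (0, 4), (0, (-2)), (2, 2), (0, (-2)), (2, 2), (0, (-2)), (1, 2), (1, 2), (0, 2), (0, (-2)), (0, (-2)), (0, (-2))],
      [(0, 2), (0, (-2)), (0, 2), (0, (-2)), (0, 2), (1, 2), (0, 4), (0, 2), (0, (-2)), (2, 2), (0, 2), (2, (-2)), (1, (-2))],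
      [(5, (-2)), (1, (-2)), (0, 4), (1, 2), (0, 2), (2, (-2)), (0, 2), (1, (-2)), (1, 2), (0, (-2)), (0, 2), (0, (-2)), (0, (-2))],
      [(5, (-2)), (1, 2), (1, 4), (0, (-2)), (0, (-2)), (2, 2), (0, 2), (1, 2), (1, (-2)), (0, (-2)), (0, 2), (0, (-2)), (0, (-2))],
      [(0, 2), (0, (-2)), (0, 2), (0, (-2)), (0, 2), (1, (-2)), (1, (-2)), (0, 2), (0, 4), (1, 2), (0, (-2)), (2, 2), (1, 2)],
      [(0, 2), (0, (-2)), (0, (-2)), (0, 2), (0, 2), (1, 2), (1, (-2)), (0, 2), (1, 4), (0, (-2)), (0, 2), (2, 2), (1, (-2))],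
      [(5, 2), (1, (-2)), (2, (-2)), (0, 2), (0, 4), (1, (-2)), (0, 2), (1, 2), (1, (-2)), (0, 2), (0, (-2)), (0, (-2)), (0, (-2))],
      [(5, 2), (1, (-2)), (2, 2), (0, (-2)), (1, 4), (0, 2), (0, 2), (1, (-2)), (1, (-2)), (0, (-2)), (0, (-2)), (0, 2), (0, (-2))],
      [(0, 2), (0, 2), (0, (-2)), (0, 2), (0, 2), (1, (-2)), (1, 2), (0, (-2)), (2, 2), (0, (-2)), (0, 4), (1, 2), (1, (-2))],
      [(0, 2), (0, 2), (0, 2), (0, 2), (0, 2), (1, 2), (1, (-2)), (0, (-2)), (2, (-2)), (0, (-2)), (1, 4), (0, (-2)), (1, 2)],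
      [(5, (-2)), (1, 2), (2, (-2)), (0, (-2)), (2, (-2)), (0, 2), (0, 4), (0, (-2)), (1, 2), (0, 2), (0, (-2)), (0, 2), (0, (-2))],
      [(0, 2), (0, (-2)), (0, 2), (0, 2), (0, (-2)), (1, (-2)), (1, 2), (0, (-2)), (2, (-2)), (0, 2), (2, 2), (0, 4), (0, 2)],
      [(5, 2), (1, 2), (2, (-2)), (0, 2), (2, 2), (0, (-2)), (1, (-2)), (0, 4), (0, 2), (0, (-2)), (0, (-2)), (0, (-2)), (0, (-2))],
      [(0, 2), (0, 2), (0, 2), (0, 2), (0, (-2)), (1, (-2)), (1, (-2)), (0, 2), (2, 2), (0, 2), (2, (-2)), (1, (-2)), (0, 4)],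
      [(0, 2), (0, 2), (0, (-2)), (0, (-2)), (0, 2), (1, (-2)), (1, 2), (0, 2), (2, (-2)), (0, 2), (2, (-2)), (1, 2), (1, 4)],
      [(0, 2), (0, 2), (0, (-2)), (0, (-2)), (0, (-2)), (1, 2), (1, (-2)), (0, (-2)), (2, 2), (0, 2), (2, 2), (1, 2), (2, 4)],
      [(0, 2), (0, (-2)), (0, (-2)), (0, 2), (0, (-2)), (1, 2), (1, 2), (0, 2), (2, 2), (0, (-2)), (2, (-2)), (1, 2), (3, 4)],
      [(0, (-2)), (0, 2), (0, 2), (0, 2), (0, 2), (1, 2), (1, 2), (0, 2), (2, 2), (0, 2), (2, 2), (1, 2), (4, 4)]])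

/-- a matrix -/
def mat11 : List (List (ℕ × ℤ)) × List (List (ℕ × ℤ)) :=
  ([[(0, 8)],
      [(2, 8)],
      [(4, 8)],
      [(6, 8)],
      [(8, 8)],
      [(10, 8)],
      [(12, 8)],
      [(14, 8)],
      [(16, 8)],
      [(18, 8)],
      [(20, 8)],
      [(22, 8)],
      [(1, 8)],
      [(3, 8)],
      [(5, 8)],
      [(7, 8)],
      [(9, 8)],
      [(11, 8)],
      [(13, 8)],
      [(15, 8)],
      [(17, 8)],
      [(19, 8)],
      [(21, 8)],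
      [(23, 8)]],
     [[(0, 8)],
      [(12, 8)],
      [(1, 8)],
      [(13, 8)],
      [(2, 8)],
      [(14, 8)],
      [(3, 8)],
      [(15, 8)],
      [(4, 8)],
      [(16, 8)],
      [(5, 8)],
      [(17, 8)],
      [(6, 8)],
      [(18, 8)],
      [(7, 8)],
      [(19, 8)],
      [(8, 8)],
      [(20, 8)],
      [(9, 8)],
      [(21, 8)],
      [(10, 8)],
      [(22, 8)],
      [(11, 8)],
      [(23, 8)]])

/-- a matrix -/
def mat12 : List (List (ℕ × ℤ)) × List (List (ℕ × ℤ)) :=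
  ([[(0, 4), (4, (-2)), (1, (-2)), (2, (-2)), (0, (-2)), (2, (-2)), (0, (-2)), (1, (-2)), (1, (-2)), (0, (-2)), (0, (-2)), (0, (-2)), (0, 2)],
      [(1, 4), (3, (-2)), (1, 2), (2, 2), (0, 2), (2, (-2)), (0, (-2)), (1, 2), (1, (-2)), (0, (-2)), (0, (-2)), (0, 2), (0, (-2))],
      [(2, 4), (2, (-2)), (1, (-2)), (2, (-2)), (0, 2), (2, 2), (0, (-2)), (1, (-2)), (1, (-2)), (0, 2), (0, 2), (0, 2), (0, (-2))],
      [(3, 4), (1, 2), (1, 2), (2, 2), (0, (-2)), (2, (-2)), (0, (-2)), (1, (-2)), (1, (-2)), (0, 2), (0, 2), (0, (-2)), (0, (-2))],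
      [(4, 4), (0, 2), (1, (-2)), (2, (-2)), (0, (-2)), (2, (-2)), (0, (-2)), (1, 2), (1, 2), (0, (-2)), (0, 2), (0, 2), (0, (-2))],
      [(0, 2), (0, 2), (0, 2), (0, (-2)), (0, (-2)), (0, 4), (0, 2), (1, 2), (0, 2), (2, (-2)), (0, (-2)), (2, 2), (1, (-2))],
      [(5, (-2)), (0, 4), (0, (-2)), (2, 2), (0, (-2)), (2, 2), (0, (-2)), (1, 2), (1, 2), (0, 2), (0, (-2)), (0, (-2)), (0, (-2))],
      [(0, 2), (0, (-2)), (0, 2), (0, (-2)), (0, 2), (1, 2), (0, 4), (0, 2), (0, (-2)), (2, 2), (0, 2), (2, (-2)), (1, (-2))],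
      [(5, (-2)), (1, (-2)), (0, 4), (1, 2), (0, 2), (2, (-2)), (0, 2), (1, (-2)), (1, 2), (0, (-2)), (0, 2), (0, (-2)), (0, (-2))],
      [(5, (-2)), (1, 2), (1, 4), (0, (-2)), (0, (-2)), (2, 2), (0, 2), (1, 2), (1, (-2)), (0, (-2)), (0, 2), (0, (-2)), (0, (-2))],
      [(0, 2), (0, (-2)), (0, 2), (0, (-2)), (0, 2), (1, (-2)), (1, (-2)), (0, 2), (0, 4), (1, 2), (0, (-2)), (2, 2), (1, 2)],
      [(0, 2), (0, (-2)), (0, (-2)), (0, 2), (0, 2), (1, 2), (1, (-2)), (0, 2), (1, 4), (0, (-2)), (0, 2), (2, 2), (1, (-2))],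
      [(5, 2), (1, (-2)), (2, (-2)), (0, 2), (0, 4), (1, (-2)), (0, 2), (1, 2), (1, (-2)), (0, 2), (0, (-2)), (0, (-2)), (0, (-2))],
      [(5, 2), (1, (-2)), (2, 2), (0, (-2)), (1, 4), (0, 2), (0, 2), (1, (-2)), (1, (-2)), (0, (-2)), (0, (-2)), (0, 2), (0, (-2))],
      [(0, 2), (0, 2), (0, (-2)), (0, 2), (0, 2), (1, (-2)), (1, 2), (0, (-2)), (2, 2), (0, (-2)), (0, 4), (1, 2), (1, (-2))],
      [(0, 2), (0, 2), (0, 2), (0, 2), (0, 2), (1, 2), (1, (-2)), (0, (-2)), (2, (-2)), (0, (-2)), (1, 4), (0, (-2)), (1, 2)],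
      [(5, (-2)), (1, 2), (2, (-2)), (0, (-2)), (2, (-2)), (0, 2), (0, 4), (0, (-2)), (1, 2), (0, 2), (0, (-2)), (0, 2), (0, (-2))],
      [(0, 2), (0, (-2)), (0, 2), (0, 2), (0, (-2)), (1, (-2)), (1, 2), (0, (-2)), (2, (-2)), (0, 2), (2, 2), (0, 4), (0, 2)],
      [(5, 2), (1, 2), (2, (-2)), (0, 2), (2, 2), (0, (-2)), (1, (-2)), (0, 4), (0, 2), (0, (-2)), (0, (-2)), (0, (-2)), (0, (-2))],
      [(0, 2), (0, 2), (0, 2), (0, 2), (0, (-2)), (1, (-2)), (1, (-2)), (0, 2), (2, 2), (0, 2), (2, (-2)), (1, (-2)), (0, 4)],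
      [(0, 2), (0, 2), (0, (-2)), (0, (-2)), (0, 2), (1, (-2)), (1, 2), (0, 2), (2, (-2)), (0, 2), (2, (-2)), (1, 2), (1, 4)],
      [(0, 2), (0, 2), (0, (-2)), (0, (-2)), (0, (-2)), (1, 2), (1, (-2)), (0, (-2)), (2, 2), (0, 2), (2, 2), (1, 2), (2, 4)],
      [(0, 2), (0, (-2)), (0, (-2)), (0, 2), (0, (-2)), (1, 2), (1, 2), (0, 2), (2, 2), (0, (-2)), (2, (-2)), (1, 2), (3, 4)],
      [(0, (-2)), (0, 2), (0, 2), (0, 2), (0, 2), (1, 2), (1, 2), (0, 2), (2, 2), (0, 2), (2, 2), (1, 2), (4, 4)]],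
     [[(0, 4), (4, 2), (1, 2), (2, 2), (0, 2), (2, 2), (0, 2), (1, 2), (1, 2), (0, 2), (0, 2), (0, 2), (0, (-2))],
      [(1, 4), (3, 2), (1, (-2)), (2, (-2)), (0, (-2)), (2, 2), (0, 2), (1, (-2)), (1, 2), (0, 2), (0, 2), (0, (-2)), (0, 2)],
      [(2, 4), (2, 2), (1, 2), (2, 2), (0, (-2)), (2, (-2)), (0, 2), (1, 2), (1, 2), (0, (-2)), (0, (-2)), (0, (-2)), (0, 2)],
      [(3, 4), (1, (-2)), (1, (-2)), (2, (-2)), (0, 2), (2, 2), (0, 2), (1, 2), (1, 2), (0, (-2)), (0, (-2)), (0, 2), (0, 2)],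
      [(4, 4), (0, (-2)), (1, 2), (2, 2), (0, 2), (2, 2), (0, 2), (1, (-2)), (1, (-2)), (0, 2), (0, (-2)), (0, (-2)), (0, 2)],
      [(0, (-2)), (0, (-2)), (0, (-2)), (0, 2), (0, 2), (0, 4), (0, (-2)), (1, (-2)), (0, (-2)), (2, 2), (0, 2), (2, (-2)), (1, 2)],
      [(5, 2), (0, 4), (0, 2), (2, (-2)), (0, 2), (2, (-2)), (0, 2), (1, (-2)), (1, (-2)), (0, (-2)), (0, 2), (0, 2), (0, 2)],
      [(0, (-2)), (0, 2), (0, (-2)), (0, 2), (0, (-2)), (1, (-2)), (0, 4), (0, (-2)), (0, 2), (2, (-2)), (0, (-2)), (2, 2), (1, 2)],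
      [(5, 2), (1, 2), (0, 4), (1, (-2)), (0, (-2)), (2, 2), (0, (-2)), (1, 2), (1, (-2)), (0, 2), (0, (-2)), (0, 2), (0, 2)],
      [(5, 2), (1, (-2)), (1, 4), (0, 2), (0, 2), (2, (-2)), (0, (-2)), (1, (-2)), (1, 2), (0, 2), (0, (-2)), (0, 2), (0, 2)],
      [(0, (-2)), (0, 2), (0, (-2)), (0, 2), (0, (-2)), (1, 2), (1, 2), (0, (-2)), (0, 4), (1, (-2)), (0, 2), (2, (-2)), (1, (-2))],
      [(0, (-2)), (0, 2), (0, 2), (0, (-2)), (0, (-2)), (1, (-2)), (1, 2), (0, (-2)), (1, 4), (0, 2), (0, (-2)), (2, (-2)), (1, 2)],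
      [(5, (-2)), (1, 2), (2, 2), (0, (-2)), (0, 4), (1, 2), (0, (-2)), (1, (-2)), (1, 2), (0, (-2)), (0, 2), (0, 2), (0, 2)],
      [(5, (-2)), (1, 2), (2, (-2)), (0, 2), (1, 4), (0, (-2)), (0, (-2)), (1, 2), (1, 2), (0, 2), (0, 2), (0, (-2)), (0, 2)],
      [(0, (-2)), (0, (-2)), (0, 2), (0, (-2)), (0, (-2)), (1, 2), (1, (-2)), (0, 2), (2, (-2)), (0, 2), (0, 4), (1, (-2)), (1, 2)],
      [(0, (-2)), (0, (-2)), (0, (-2)), (0, (-2)), (0, (-2)), (1, (-2)), (1, 2), (0, 2), (2, 2), (0, 2), (1, 4), (0, 2), (1, (-2))],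
      [(5, 2), (1, (-2)), (2, 2), (0, 2), (2, 2), (0, (-2)), (0, 4), (0, 2), (1, (-2)), (0, (-2)), (0, 2), (0, (-2)), (0, 2)],
      [(0, (-2)), (0, 2), (0, (-2)), (0, (-2)), (0, 2), (1, 2), (1, (-2)), (0, 2), (2, 2), (0, (-2)), (2, (-2)), (0, 4), (0, (-2))],
      [(5, (-2)), (1, (-2)), (2, 2), (0, (-2)), (2, (-2)), (0, 2), (1, 2), (0, 4), (0, (-2)), (0, 2), (0, 2), (0, 2), (0, 2)],
      [(0, (-2)), (0, (-2)), (0, (-2)), (0, (-2)), (0, 2), (1, 2), (1, 2), (0, (-2)), (2, (-2)), (0, (-2)), (2, 2), (1, 2), (0, 4)],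
      [(0, (-2)), (0, (-2)), (0, 2), (0, 2), (0, (-2)), (1, 2), (1, (-2)), (0, (-2)), (2, 2), (0, (-2)), (2, 2), (1, (-2)), (1, 4)],
      [(0, (-2)), (0, (-2)), (0, 2), (0, 2), (0, 2), (1, (-2)), (1, 2), (0, 2), (2, (-2)), (0, (-2)), (2, (-2)), (1, (-2)), (2, 4)],
      [(0, (-2)), (0, 2), (0, 2), (0, (-2)), (0, 2), (1, (-2)), (1, (-2)), (0, (-2)), (2, (-2)), (0, 2), (2, 2), (1, (-2)), (3, 4)],
      [(0, 2), (0, (-2)), (0, (-2)), (0, (-2)), (0, (-2)), (1, (-2)), (1, (-2)), (0, (-2)), (2, (-2)), (0, (-2)), (2, (-2)), (1, (-2)), (4, 4)]])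

/-- a matrix -/
def mat13 : List (List (ℕ × ℤ)) × List (List (ℕ × ℤ)) :=
  ([[(0, (-8))],
      [(1, (-8))],
      [(2, (-8))],
      [(3, (-8))],
      [(4, (-8))],
      [(5, (-8))],
      [(6, (-8))],
      [(7, (-8))],
      [(8, (-8))],
      [(9, (-8))],
      [(10, (-8))],
      [(11, (-8))],
      [(12, (-8))],
      [(13, (-8))],
      [(14, (-8))],
      [(15, (-8))],
      [(16, (-8))],
      [(17, (-8))],
      [(18, (-8))],
      [(19, (-8))],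
      [(20, (-8))],
      [(21, (-8))],
      [(22, (-8))],
      [(23, (-8))]],
     [[(0, (-8))],
      [(1, (-8))],
      [(2, (-8))],
      [(3, (-8))],
      [(4, (-8))],
      [(5, (-8))],
      [(6, (-8))],
      [(7, (-8))],
      [(8, (-8))],
      [(9, (-8))],
      [(10, (-8))],
      [(11, (-8))],
      [(12, (-8))],
      [(13, (-8))],
      [(14, (-8))],
      [(15, (-8))],
      [(16, (-8))],
      [(17, (-8))],
      [(18, (-8))],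
      [(19, (-8))],
      [(20, (-8))],
      [(21, (-8))],
      [(22, (-8))],
      [(23, (-8))]])

/-- a matrix -/
def mat14 : List (List (ℕ × ℤ)) × List (List (ℕ × ℤ)) :=
  ([[(14, (-8))],
      [(8, 8)],
      [(7, (-8))],
      [(1, 8)],
      [(9, 8)],
      [(6, (-8))],
      [(11, (-8))],
      [(20, 8)],
      [(19, (-8))],
      [(21, (-8))],
      [(15, 8)],
      [(3, 8)],
      [(16, 8)],
      [(4, (-8))],
      [(17, 8)],
      [(5, (-8))],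
      [(12, (-8))],
      [(23, (-8))],
      [(22, (-8))],
      [(2, (-8))],
      [(10, 8)],
      [(13, 8)],
      [(0, 8)],
      [(18, 8)]],
     [[(22, 8)],
      [(3, 8)],
      [(19, (-8))],
      [(11, 8)],
      [(13, (-8))],
      [(15, (-8))],
      [(5, (-8))],
      [(2, (-8))],
      [(1, 8)],
      [(4, 8)],
      [(20, 8)],
      [(6, (-8))],
      [(16, (-8))],
      [(21, 8)],
      [(0, (-8))],
      [(10, 8)],
      [(12, 8)],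
      [(14, 8)],
      [(23, 8)],
      [(8, (-8))],
      [(7, 8)],
      [(9, (-8))],
      [(18, (-8))],
      [(17, (-8))]])

/-- a matrix -/
def mat15 : List (List (ℕ × ℤ)) × List (List (ℕ × ℤ)) :=
  ([[(17, (-8))],
      [(16, (-8))],
      [(9, (-8))],
      [(8, 8)],
      [(6, 8)],
      [(21, 8)],
      [(22, (-8))],
      [(0, (-8))],
      [(12, 8)],
      [(7, (-8))],
      [(3, 8)],
      [(4, (-8))],
      [(14, 8)],
      [(20, (-8))],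
      [(2, (-8))],
      [(19, (-8))],
      [(18, 8)],
      [(10, 8)],
      [(11, 8)],
      [(1, 8)],
      [(13, (-8))],
      [(5, (-8))],
      [(23, 8)],
      [(15, 8)]],
     [[(7, (-8))],
      [(19, 8)],
      [(14, (-8))],
      [(10, 8)],
      [(11, (-8))],
      [(21, (-8))],
      [(4, 8)],
      [(9, (-8))],
      [(3, 8)],
      [(2, (-8))],
      [(17, 8)],
      [(18, 8)],
      [(8, 8)],
      [(20, (-8))],
      [(12, 8)],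
      [(23, 8)],
      [(1, (-8))],
      [(0, (-8))],
      [(16, 8)],
      [(15, (-8))],
      [(13, (-8))],
      [(5, 8)],
      [(6, (-8))],
      [(22, 8)]])

/-- a matrix -/
def mat16 : List (List (ℕ × ℤ)) × List (List (ℕ × ℤ)) :=
  ([[(0, (-8))],
      [(1, (-8))],
      [(2, (-8))],
      [(3, (-8))],
      [(4, (-8))],
      [(5, 8)],
      [(6, (-8))],
      [(7, 8)],
      [(8, (-8))],
      [(9, (-8))],
      [(10, 8)],
      [(11, 8)],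
      [(12, (-8))],
      [(13, (-8))],
      [(14, 8)],
      [(15, 8)],
      [(16, (-8))],
      [(17, 8)],
      [(18, (-8))],
      [(19, 8)],
      [(20, 8)],
      [(21, 8)],
      [(22, 8)],
      [(23, 8)]],
     [[(0, (-8))],
      [(1, (-8))],
      [(2, (-8))],
      [(3, (-8))],
      [(4, (-8))],
      [(5, 8)],
      [(6, (-8))],
      [(7, 8)],
      [(8, (-8))],
      [(9, (-8))],
      [(10, 8)],
      [(11, 8)],
      [(12, (-8))],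
      [(13, (-8))],
      [(14, 8)],
      [(15, 8)],
      [(16, (-8))],
      [(17, 8)],
      [(18, (-8))],
      [(19, 8)],
      [(20, 8)],
      [(21, 8)],
      [(22, 8)],
      [(23, 8)]])

/-- a matrix -/
def mat17 : List (List (ℕ × ℤ)) × List (List (ℕ × ℤ)) :=
  ([[(0, 8)],
      [(1, (-8))],
      [(2, (-8))],
      [(3, (-8))],
      [(4, (-8))],
      [(5, (-8))],
      [(6, 8)],
      [(7, (-8))],
      [(8, 8)],
      [(9, (-8))],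
      [(10, (-8))],
      [(11, 8)],
      [(12, 8)],
      [(13, (-8))],
      [(14, (-8))],
      [(15, 8)],
      [(16, 8)],
      [(17, (-8))],
      [(18, 8)],
      [(19, (-8))],
      [(20, 8)],
      [(21, 8)],
      [(22, 8)],
      [(23, 8)]],
     [[(0, 8)],
      [(1, (-8))],
      [(2, (-8))],
      [(3, (-8))],
      [(4, (-8))],
      [(5, (-8))],
      [(6, 8)],
      [(7, (-8))],
      [(8, 8)],
      [(9, (-8))],
      [(10, (-8))],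
      [(11, 8)],
      [(12, 8)],
      [(13, (-8))],
      [(14, (-8))],
      [(15, 8)],
      [(16, 8)],
      [(17, (-8))],
      [(18, 8)],
      [(19, (-8))],
      [(20, 8)],
      [(21, 8)],
      [(22, 8)],
      [(23, 8)]])

/-- a matrix -/
def mat18 : List (List (ℕ × ℤ)) × List (List (ℕ × ℤ)) :=
  ([[(0, 8)],
      [(1, 8)],
      [(2, (-8))],
      [(3, (-8))],
      [(4, (-8))],
      [(5, (-8))],
      [(6, (-8))],
      [(7, 8)],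
      [(8, (-8))],
      [(9, 8)],
      [(10, (-8))],
      [(11, (-8))],
      [(12, 8)],
      [(13, 8)],
      [(14, (-8))],
      [(15, (-8))],
      [(16, 8)],
      [(17, 8)],
      [(18, (-8))],
      [(19, 8)],
      [(20, (-8))],
      [(21, 8)],
      [(22, 8)],
      [(23, 8)]],
     [[(0, 8)],
      [(1, 8)],
      [(2, (-8))],
      [(3, (-8))],
      [(4, (-8))],
      [(5, (-8))],
      [(6, (-8))],
      [(7, 8)],
      [(8, (-8))],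
      [(9, 8)],
      [(10, (-8))],
      [(11, (-8))],
      [(12, 8)],
      [(13, 8)],
      [(14, (-8))],
      [(15, (-8))],
      [(16, 8)],
      [(17, 8)],
      [(18, (-8))],
      [(19, 8)],
      [(20, (-8))],
      [(21, 8)],
      [(22, 8)],
      [(23, 8)]])

/-- a matrix -/
def mat19 : List (List (ℕ × ℤ)) × List (List (ℕ × ℤ)) :=
  ([[(0, 8)],
      [(1, 8)],
      [(2, 8)],
      [(3, (-8))],
      [(4, (-8))],
      [(5, (-8))],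
      [(6, (-8))],
      [(7, (-8))],
      [(8, 8)],
      [(9, (-8))],
      [(10, 8)],
      [(11, (-8))],
      [(12, (-8))],
      [(13, 8)],
      [(14, 8)],
      [(15, (-8))],
      [(16, (-8))],
      [(17, 8)],
      [(18, 8)],
      [(19, (-8))],
      [(20, 8)],
      [(21, (-8))],
      [(22, 8)],
      [(23, 8)]],
     [[(0, 8)],
      [(1, 8)],
      [(2, 8)],
      [(3, (-8))],
      [(4, (-8))],
      [(5, (-8))],
      [(6, (-8))],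
      [(7, (-8))],
      [(8, 8)],
      [(9, (-8))],
      [(10, 8)],
      [(11, (-8))],
      [(12, (-8))],
      [(13, 8)],
      [(14, 8)],
      [(15, (-8))],
      [(16, (-8))],
      [(17, 8)],
      [(18, 8)],
      [(19, (-8))],
      [(20, 8)],
      [(21, (-8))],
      [(22, 8)],
      [(23, 8)]])

/-- a matrix -/
def mat20 : List (List (ℕ × ℤ)) × List (List (ℕ × ℤ)) :=
  ([[(0, 8)],
      [(1, 8)],
      [(2, 8)],
      [(3, 8)],
      [(4, (-8))],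
      [(5, (-8))],
      [(6, (-8))],
      [(7, (-8))],
      [(8, (-8))],
      [(9, 8)],
      [(10, (-8))],
      [(11, 8)],
      [(12, (-8))],
      [(13, (-8))],
      [(14, 8)],
      [(15, 8)],
      [(16, (-8))],
      [(17, (-8))],
      [(18, 8)],
      [(19, 8)],
      [(20, (-8))],
      [(21, 8)],
      [(22, (-8))],
      [(23, 8)]],
     [[(0, 8)],
      [(1, 8)],
      [(2, 8)],
      [(3, 8)],
      [(4, (-8))],
      [(5, (-8))],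
      [(6, (-8))],
      [(7, (-8))],
      [(8, (-8))],
      [(9, 8)],
      [(10, (-8))],
      [(11, 8)],
      [(12, (-8))],
      [(13, (-8))],
      [(14, 8)],
      [(15, 8)],
      [(16, (-8))],
      [(17, (-8))],
      [(18, 8)],
      [(19, 8)],
      [(20, (-8))],
      [(21, 8)],
      [(22, (-8))],
      [(23, 8)]])

/-- a matrix -/
def mat21 : List (List (ℕ × ℤ)) × List (List (ℕ × ℤ)) :=
  ([[(0, (-8))],
      [(1, 8)],
      [(2, 8)],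
      [(3, 8)],
      [(4, 8)],
      [(5, (-8))],
      [(6, (-8))],
      [(7, (-8))],
      [(8, (-8))],
      [(9, (-8))],
      [(10, 8)],
      [(11, (-8))],
      [(12, 8)],
      [(13, (-8))],
      [(14, (-8))],
      [(15, 8)],
      [(16, 8)],
      [(17, (-8))],
      [(18, (-8))],
      [(19, 8)],
      [(20, 8)],
      [(21, (-8))],
      [(22, 8)],
      [(23, 8)]],
     [[(0, (-8))],
      [(1, 8)],
      [(2, 8)],
      [(3, 8)],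
      [(4, 8)],
      [(5, (-8))],
      [(6, (-8))],
      [(7, (-8))],
      [(8, (-8))],
      [(9, (-8))],
      [(10, 8)],
      [(11, (-8))],
      [(12, 8)],
      [(13, (-8))],
      [(14, (-8))],
      [(15, 8)],
      [(16, 8)],
      [(17, (-8))],
      [(18, (-8))],
      [(19, 8)],
      [(20, 8)],
      [(21, (-8))],
      [(22, 8)],
      [(23, 8)]])

/-- a matrix -/
def mat22 : List (List (ℕ × ℤ)) × List (List (ℕ × ℤ)) :=
  ([[(0, 8)],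
      [(1, (-8))],
      [(2, 8)],
      [(3, 8)],
      [(4, 8)],
      [(5, 8)],
      [(6, (-8))],
      [(7, (-8))],
      [(8, (-8))],
      [(9, (-8))],
      [(10, (-8))],
      [(11, 8)],
      [(12, (-8))],
      [(13, 8)],
      [(14, (-8))],
      [(15, (-8))],
      [(16, 8)],
      [(17, 8)],
      [(18, (-8))],
      [(19, (-8))],
      [(20, 8)],
      [(21, 8)],
      [(22, (-8))],
      [(23, 8)]],
     [[(0, 8)],
      [(1, (-8))],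
      [(2, 8)],
      [(3, 8)],
      [(4, 8)],
      [(5, 8)],
      [(6, (-8))],
      [(7, (-8))],
      [(8, (-8))],
      [(9, (-8))],
      [(10, (-8))],
      [(11, 8)],
      [(12, (-8))],
      [(13, 8)],
      [(14, (-8))],
      [(15, (-8))],
      [(16, 8)],
      [(17, 8)],
      [(18, (-8))],
      [(19, (-8))],
      [(20, 8)],
      [(21, 8)],
      [(22, (-8))],
      [(23, 8)]])

/-- a matrix -/
def mat23 : List (List (ℕ × ℤ)) × List (List (ℕ × ℤ)) :=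
  ([[(0, (-8))],
      [(1, 8)],
      [(2, (-8))],
      [(3, 8)],
      [(4, 8)],
      [(5, 8)],
      [(6, 8)],
      [(7, (-8))],
      [(8, (-8))],
      [(9, (-8))],
      [(10, (-8))],
      [(11, (-8))],
      [(12, 8)],
      [(13, (-8))],
      [(14, 8)],
      [(15, (-8))],
      [(16, (-8))],
      [(17, 8)],
      [(18, 8)],
      [(19, (-8))],
      [(20, (-8))],
      [(21, 8)],
      [(22, 8)],
      [(23, 8)]],
     [[(0, (-8))],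
      [(1, 8)],
      [(2, (-8))],
      [(3, 8)],
      [(4, 8)],
      [(5, 8)],
      [(6, 8)],
      [(7, (-8))],
      [(8, (-8))],
      [(9, (-8))],
      [(10, (-8))],
      [(11, (-8))],
      [(12, 8)],
      [(13, (-8))],
      [(14, 8)],
      [(15, (-8))],
      [(16, (-8))],
      [(17, 8)],
      [(18, 8)],
      [(19, (-8))],
      [(20, (-8))],
      [(21, 8)],
      [(22, 8)],
      [(23, 8)]])

/-- a matrix -/
def mat24 : List (List (ℕ × ℤ)) × List (List (ℕ × ℤ)) :=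
  ([[(0, 8)],
      [(1, (-8))],
      [(2, 8)],
      [(3, (-8))],
      [(4, 8)],
      [(5, 8)],
      [(6, 8)],
      [(7, 8)],
      [(8, (-8))],
      [(9, (-8))],
      [(10, (-8))],
      [(11, (-8))],
      [(12, (-8))],
      [(13, 8)],
      [(14, (-8))],
      [(15, 8)],
      [(16, (-8))],
      [(17, (-8))],
      [(18, 8)],
      [(19, 8)],
      [(20, (-8))],
      [(21, (-8))],
      [(22, 8)],
      [(23, 8)]],
     [[(0, 8)],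
      [(1, (-8))],
      [(2, 8)],
      [(3, (-8))],
      [(4, 8)],
      [(5, 8)],
      [(6, 8)],
      [(7, 8)],
      [(8, (-8))],
      [(9, (-8))],
      [(10, (-8))],
      [(11, (-8))],
      [(12, (-8))],
      [(13, 8)],
      [(14, (-8))],
      [(15, 8)],
      [(16, (-8))],
      [(17, (-8))],
      [(18, 8)],
      [(19, 8)],
      [(20, (-8))],
      [(21, (-8))],
      [(22, 8)],
      [(23, 8)]])

/-- a matrix -/
def mat25 : List (List (ℕ × ℤ)) × List (List (ℕ × ℤ)) :=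
  ([[(0, 8)],
      [(1, 8)],
      [(2, (-8))],
      [(3, 8)],
      [(4, (-8))],
      [(5, 8)],
      [(6, 8)],
      [(7, 8)],
      [(8, 8)],
      [(9, (-8))],
      [(10, (-8))],
      [(11, (-8))],
      [(12, (-8))],
      [(13, (-8))],
      [(14, 8)],
      [(15, (-8))],
      [(16, 8)],
      [(17, (-8))],
      [(18, (-8))],
      [(19, 8)],
      [(20, 8)],
      [(21, (-8))],
      [(22, (-8))],
      [(23, 8)]],
     [[(0, 8)],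
      [(1, 8)],
      [(2, (-8))],
      [(3, 8)],
      [(4, (-8))],
      [(5, 8)],
      [(6, 8)],
      [(7, 8)],
      [(8, 8)],
      [(9, (-8))],
      [(10, (-8))],
      [(11, (-8))],
      [(12, (-8))],
      [(13, (-8))],
      [(14, 8)],
      [(15, (-8))],
      [(16, 8)],
      [(17, (-8))],
      [(18, (-8))],
      [(19, 8)],
      [(20, 8)],
      [(21, (-8))],
      [(22, (-8))],
      [(23, 8)]])

/-- a matrix -/
def mat26 : List (List (ℕ × ℤ)) × List (List (ℕ × ℤ)) :=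
  ([[(0, (-8))],
      [(1, 8)],
      [(2, 8)],
      [(3, (-8))],
      [(4, 8)],
      [(5, (-8))],
      [(6, 8)],
      [(7, 8)],
      [(8, 8)],
      [(9, 8)],
      [(10, (-8))],
      [(11, (-8))],
      [(12, (-8))],
      [(13, (-8))],
      [(14, (-8))],
      [(15, 8)],
      [(16, (-8))],
      [(17, 8)],
      [(18, (-8))],
      [(19, (-8))],
      [(20, 8)],
      [(21, 8)],
      [(22, (-8))],
      [(23, 8)]],
     [[(0, (-8))],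
      [(1, 8)],
      [(2, 8)],
      [(3, (-8))],
      [(4, 8)],
      [(5, (-8))],
      [(6, 8)],
      [(7, 8)],
      [(8, 8)],
      [(9, 8)],
      [(10, (-8))],
      [(11, (-8))],
      [(12, (-8))],
      [(13, (-8))],
      [(14, (-8))],
      [(15, 8)],
      [(16, (-8))],
      [(17, 8)],
      [(18, (-8))],
      [(19, (-8))],
      [(20, 8)],
      [(21, 8)],
      [(22, (-8))],
      [(23, 8)]])

/-- a matrix -/
def mat27 : List (List (ℕ × ℤ)) × List (List (ℕ × ℤ)) :=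
  ([[(0, (-8))],
      [(1, (-8))],
      [(2, (-8))],
      [(3, (-8))],
      [(4, (-8))],
      [(5, (-8))],
      [(6, (-8))],
      [(7, (-8))],
      [(8, (-8))],
      [(9, (-8))],
      [(10, (-8))],
      [(11, (-8))],
      [(12, (-8))],
      [(13, (-8))],
      [(14, (-8))],
      [(15, (-8))],
      [(16, (-8))],
      [(17, (-8))],
      [(18, (-8))],
      [(19, (-8))],
      [(20, (-8))],
      [(21, (-8))],
      [(22, (-8))],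
      [(23, (-8))]],
     [[(0, (-8))],
      [(1, (-8))],
      [(2, (-8))],
      [(3, (-8))],
      [(4, (-8))],
      [(5, (-8))],
      [(6, (-8))],
      [(7, (-8))],
      [(8, (-8))],
      [(9, (-8))],
      [(10, (-8))],
      [(11, (-8))],
      [(12, (-8))],
      [(13, (-8))],
      [(14, (-8))],
      [(15, (-8))],
      [(16, (-8))],
      [(17, (-8))],
      [(18, (-8))],
      [(19, (-8))],
      [(20, (-8))],
      [(21, (-8))],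
      [(22, (-8))],
      [(23, (-8))]])

/-- a matrix -/
def mat28 : List (List (ℕ × ℤ)) × List (List (ℕ × ℤ)) :=
  ([[(23, 8)],
      [(22, 8)],
      [(11, 8)],
      [(15, 8)],
      [(17, 8)],
      [(9, 8)],
      [(19, 8)],
      [(13, 8)],
      [(20, 8)],
      [(5, 8)],
      [(16, 8)],
      [(2, 8)],
      [(21, 8)],
      [(7, 8)],
      [(18, 8)],
      [(3, 8)],
      [(10, 8)],
      [(4, 8)],
      [(14, 8)],
      [(6, 8)],
      [(8, 8)],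
      [(12, 8)],
      [(1, 8)],
      [(0, 8)]],
     [[(23, 8)],
      [(22, 8)],
      [(11, 8)],
      [(15, 8)],
      [(17, 8)],
      [(9, 8)],
      [(19, 8)],
      [(13, 8)],
      [(20, 8)],
      [(5, 8)],
      [(16, 8)],
      [(2, 8)],
      [(21, 8)],
      [(7, 8)],
      [(18, 8)],
      [(3, 8)],
      [(10, 8)],
      [(4, 8)],
      [(14, 8)],
      [(6, 8)],
      [(8, 8)],
      [(12, 8)],
      [(1, 8)],
      [(0, 8)]])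

/-- a matrix -/
def mat29 : List (List (ℕ × ℤ)) × List (List (ℕ × ℤ)) :=
  ([[(0, 8)],
      [(6, 8)],
      [(4, 8)],
      [(3, 8)],
      [(18, 8)],
      [(7, 8)],
      [(2, 8)],
      [(10, 8)],
      [(12, 8)],
      [(13, 8)],
      [(20, 8)],
      [(17, 8)],
      [(9, 8)],
      [(16, 8)],
      [(22, 8)],
      [(15, 8)],
      [(8, 8)],
      [(14, 8)],
      [(1, 8)],
      [(11, 8)],
      [(21, 8)],
      [(5, 8)],
      [(19, 8)],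
      [(23, 8)]],
     [[(0, 8)],
      [(18, 8)],
      [(6, 8)],
      [(3, 8)],
      [(2, 8)],
      [(21, 8)],
      [(1, 8)],
      [(5, 8)],
      [(16, 8)],
      [(12, 8)],
      [(7, 8)],
      [(19, 8)],
      [(8, 8)],
      [(9, 8)],
      [(17, 8)],
      [(15, 8)],
      [(13, 8)],
      [(11, 8)],
      [(4, 8)],
      [(22, 8)],
      [(10, 8)],
      [(20, 8)],
      [(14, 8)],
      [(23, 8)]])

/-- a matrix -/
def mat30 : List (List (ℕ × ℤ)) × List (List (ℕ × ℤ)) :=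
  ([[(0, (-8))],
      [(1, (-8))],
      [(2, (-8))],
      [(3, 8)],
      [(4, (-8))],
      [(5, (-8))],
      [(6, 8)],
      [(7, (-8))],
      [(8, (-8))],
      [(9, (-8))],
      [(10, 8)],
      [(11, (-8))],
      [(12, (-8))],
      [(13, 8)],
      [(14, (-8))],
      [(15, (-8))],
      [(16, 8)],
      [(17, 8)],
      [(18, (-8))],
      [(19, (-8))],
      [(20, 8)],
      [(21, 8)],
      [(22, (-8))],
      [(23, (-8))]],
     [[(0, (-8))],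
      [(1, (-8))],
      [(2, (-8))],
      [(3, 8)],
      [(4, (-8))],
      [(5, (-8))],
      [(6, 8)],
      [(7, (-8))],
      [(8, (-8))],
      [(9, (-8))],
      [(10, 8)],
      [(11, (-8))],
      [(12, (-8))],
      [(13, 8)],
      [(14, (-8))],
      [(15, (-8))],
      [(16, 8)],
      [(17, 8)],
      [(18, (-8))],
      [(19, (-8))],
      [(20, 8)],
      [(21, 8)],
      [(22, (-8))],
      [(23, (-8))]])

/-- the matrices -/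
def oneW : List (List (List (ℕ × ℤ)) × List (List (ℕ × ℤ))) :=
  [mat0, mat1, mat2, mat3, mat4, mat5, mat6, mat7, mat8, mat9, mat10, mat11, mat12, mat13, mat14, mat15, mat16, mat17, mat18, mat19, mat20, mat21, mat22, mat23, mat24, mat25, mat26, mat27, mat28, mat29, mat30]

/-- relations between the matrices -/
def relsW : List (List ℕ × List ℕ) :=
  [([1, 0], []),
    ([0, 1], []),
    ([3, 2], []),
    ([2, 3], []),
    ([11, 4], []),
    ([4, 11], []),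
    ([12, 10], []),
    ([10, 12], []),
    ([5, 5], []),
    ([4], [2, 2, 2, 2, 2, 2]),
    ([10], [2, 2, 2, 2, 2, 2, 2, 2, 2, 2, 2]),
    ([13], [2, 2, 2, 2, 2, 2, 2, 2, 2, 2, 2, 2, 2, 2, 2, 2, 2, 2, 2, 2, 2, 2, 2, 2, 2, 2, 2, 2, 2, 2, 2, 2, 2]),
    ([7], [2, 1, 2, 1, 2, 0, 0, 2, 0, 2, 0, 0, 2, 0, 3, 3, 0, 3]),
    ([8], [3, 1, 3, 0, 3, 0, 3, 0, 3, 3, 0, 3, 3, 3, 3, 3, 0, 3]),
    ([9], [2, 1, 3, 1, 1, 2, 2, 1, 1, 2, 1, 1, 2, 1, 1, 2, 0, 0, 2]),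
    ([14, 7], []),
    ([15, 8], []),
    ([30], [9, 9, 9, 9, 9, 9, 9, 9, 9, 9, 9, 9, 9, 9, 9]),
    ([16], [0, 0, 0, 0, 0, 0, 30, 1, 1, 1, 1, 1, 30, 0, 30, 0, 0, 30, 1, 30, 0, 0, 0, 0, 0, 0, 0, 30, 1, 1, 1, 30, 0, 0, 30, 0, 0, 30, 1, 1, 1, 30, 1, 1, 1, 1, 1, 1, 1, 1]),
    ([17], [0, 0, 0, 0, 0, 0, 0, 30, 1, 1, 1, 1, 1, 1, 1, 30, 0, 0, 0, 30, 0, 30, 1, 1, 1, 1]),
    ([18], [0, 0, 0, 0, 0, 0, 0, 0, 30, 1, 1, 1, 1, 1, 1, 1, 30, 0, 0, 0, 30, 0, 30, 1, 1, 1, 1, 1]),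
    ([19], [0, 0, 30, 0, 0, 0, 30, 0, 0, 0, 0, 30, 1, 1, 1, 30, 1, 1, 1, 1, 1, 1]),
    ([20], [0, 0, 0, 0, 0, 0, 30, 1, 1, 1, 30, 0, 0, 0, 0, 0, 0, 0, 30, 1, 1, 1, 30, 1, 1, 1, 1, 1, 1, 1]),
    ([21], [0, 0, 0, 0, 0, 0, 0, 30, 1, 1, 1, 30, 0, 0, 0, 0, 0, 0, 0, 30, 1, 1, 1, 30, 1, 1, 1, 1, 1, 1, 1, 1]),
    ([22], [30, 0, 0, 30, 0, 0, 0, 0, 0, 0, 0, 0, 30, 0, 30, 1, 1, 1, 1, 1, 1, 1, 1, 1, 1, 1]),
    ([23], [0, 0, 0, 0, 0, 0, 0, 0, 30, 1, 1, 1, 1, 1, 1, 1, 1, 30, 0, 30, 0, 30, 0, 30, 0, 0, 30, 0, 0, 0, 0, 0, 30, 1, 30, 1, 1, 1, 1, 1, 1, 1, 1, 1]),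
    ([24], [0, 0, 30, 1, 30, 0, 0, 0, 0, 0, 30, 1, 1, 30, 1, 30, 0, 0, 0, 0, 0, 0, 0, 30, 1, 30, 0, 0, 30, 1, 1, 1, 1, 1, 1, 1, 1, 1, 1, 1]),
    ([25], [30, 0, 0, 0, 0, 0, 0, 0, 0, 30, 1, 1, 1, 1, 30, 1, 30, 0, 0, 0, 0, 30, 0, 0, 30, 1, 1, 1, 1, 1, 1, 1, 1, 1]),
    ([26], [0, 30, 0, 0, 0, 0, 0, 0, 0, 30, 1, 1, 1, 1, 30, 0, 30, 0, 0, 0, 0, 0, 30, 1, 30, 1, 1, 1, 1, 1, 1, 1, 1, 1]),
    ([27], [30, 0, 30, 0, 0, 0, 0, 0, 30, 1, 30, 0, 0, 30, 0, 0, 0, 0, 30, 1, 1, 30, 1, 1, 1, 1, 1, 1, 1, 1, 1]),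
    ([28], [30, 0, 0, 0, 0, 0, 0, 0, 0, 0, 30, 1, 1, 1, 30, 1, 1, 1, 30, 1, 1, 1, 14, 8, 1, 14, 15, 11, 14, 15, 7, 1, 1]),
    ([29], [0, 0, 30, 1, 1, 30, 0, 0, 0, 0, 0, 0, 0, 0, 0, 0, 30, 1, 30, 0, 0, 30, 1, 1, 1, 30, 1, 1, 1, 1, 1, 1, 1, 1, 14, 15, 1, 8, 1, 15, 15, 15, 14]),
    ([0, 0, 4], [4, 0]),
    ([2, 4], [4, 2]),
    ([6, 4], [4, 4, 6]),
    ([4, 4, 4, 4, 4, 4, 4, 4, 4, 4, 4], []),
    ([5, 4], [4, 5]),
    ([10, 4], [4, 10])]

/-- the monomial ones: position, images and signs -/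
def monoW : List (ℕ × List ℕ × ℕ) :=
  [(0, [22, 0, 1, 2, 3, 4, 5, 6, 7, 8, 9, 10, 11, 12, 13, 14, 15, 16, 17, 18, 19, 20, 21, 23], 0),
    (1, [1, 2, 3, 4, 5, 6, 7, 8, 9, 10, 11, 12, 13, 14, 15, 16, 17, 18, 19, 20, 21, 22, 0, 23], 0),
    (4, [0, 12, 1, 13, 2, 14, 3, 15, 4, 16, 5, 17, 6, 18, 7, 19, 8, 20, 9, 21, 10, 22, 11, 23], 0),
    (5, [0, 1, 2, 3, 4, 5, 6, 7, 8, 9, 10, 11, 12, 13, 14, 15, 16, 17, 18, 19, 20, 21, 22, 23], 340831),
    (11, [0, 2, 4, 6, 8, 10, 12, 14, 16, 18, 20, 22, 1, 3, 5, 7, 9, 11, 13, 15, 17, 19, 21, 23], 0),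
    (13, [0, 1, 2, 3, 4, 5, 6, 7, 8, 9, 10, 11, 12, 13, 14, 15, 16, 17, 18, 19, 20, 21, 22, 23], 16777215),
    (16, [0, 1, 2, 3, 4, 5, 6, 7, 8, 9, 10, 11, 12, 13, 14, 15, 16, 17, 18, 19, 20, 21, 22, 23], 340831),
    (17, [0, 1, 2, 3, 4, 5, 6, 7, 8, 9, 10, 11, 12, 13, 14, 15, 16, 17, 18, 19, 20, 21, 22, 23], 681662),
    (18, [0, 1, 2, 3, 4, 5, 6, 7, 8, 9, 10, 11, 12, 13, 14, 15, 16, 17, 18, 19, 20, 21, 22, 23], 1363324),
    (19, [0, 1, 2, 3, 4, 5, 6, 7, 8, 9, 10, 11, 12, 13, 14, 15, 16, 17, 18, 19, 20, 21, 22, 23], 2726648),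
    (20, [0, 1, 2, 3, 4, 5, 6, 7, 8, 9, 10, 11, 12, 13, 14, 15, 16, 17, 18, 19, 20, 21, 22, 23], 5453296),
    (21, [0, 1, 2, 3, 4, 5, 6, 7, 8, 9, 10, 11, 12, 13, 14, 15, 16, 17, 18, 19, 20, 21, 22, 23], 2517985),
    (22, [0, 1, 2, 3, 4, 5, 6, 7, 8, 9, 10, 11, 12, 13, 14, 15, 16, 17, 18, 19, 20, 21, 22, 23], 5035970),
    (23, [0, 1, 2, 3, 4, 5, 6, 7, 8, 9, 10, 11, 12, 13, 14, 15, 16, 17, 18, 19, 20, 21, 22, 23], 1683333),
    (24, [0, 1, 2, 3, 4, 5, 6, 7, 8, 9, 10, 11, 12, 13, 14, 15, 16, 17, 18, 19, 20, 21, 22, 23], 3366666),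
    (25, [0, 1, 2, 3, 4, 5, 6, 7, 8, 9, 10, 11, 12, 13, 14, 15, 16, 17, 18, 19, 20, 21, 22, 23], 6733332),
    (26, [0, 1, 2, 3, 4, 5, 6, 7, 8, 9, 10, 11, 12, 13, 14, 15, 16, 17, 18, 19, 20, 21, 22, 23], 5078057),
    (27, [0, 1, 2, 3, 4, 5, 6, 7, 8, 9, 10, 11, 12, 13, 14, 15, 16, 17, 18, 19, 20, 21, 22, 23], 16777215),
    (28, [23, 22, 11, 15, 17, 9, 19, 13, 20, 5, 16, 2, 21, 7, 18, 3, 10, 4, 14, 6, 8, 12, 1, 0], 0),
    (29, [0, 6, 4, 3, 18, 7, 2, 10, 12, 13, 20, 17, 9, 16, 22, 15, 8, 14, 1, 11, 21, 5, 19, 23], 0)]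

/-- elements carrying the first frame vector to the others fixed by the element of order eleven -/
def hW : List (List ℕ × ℕ) :=
  [([], 1), ([10], 1), ([10, 10], 1), ([10, 10, 10], 1), ([10, 10, 10, 10], 1), ([10, 10, 10, 10, 10], 1), ([6], 2), ([10, 6], 2), ([10, 10, 6], 2), ([10, 10, 10, 6], 2), ([10, 10, 10, 10, 6], 2), ([10, 10, 10, 10, 10, 6], 2)]

/-- relations in the two generators -/
def twoRels : List (List ℕ × List ℕ) :=
  [([0, 0, 0, 0, 2, 1, 3, 0, 0, 0, 0, 2, 1, 3, 0, 0, 0, 0, 2, 1, 3, 0, 0, 0, 0, 2, 1, 3, 0, 0, 0, 0, 2, 1, 3], [13]),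
    ([0, 2, 0, 2, 0, 2, 0, 2, 0, 2, 0, 2, 0, 2, 0, 2, 0, 2, 0, 2, 0, 2, 0, 2, 0, 2, 0, 2, 0, 2], []),
    ([0, 3, 0, 3, 0, 3, 0, 3, 0, 3, 0, 3, 0, 3, 0, 3, 0, 3, 0, 3, 0, 3, 0, 3, 0, 3, 0, 3, 0, 3, 0, 3, 0, 3, 0, 3, 0, 3, 0, 3, 0, 3, 0, 3, 0, 3, 0, 3], []),
    ([0, 3, 3, 3, 3, 3, 0, 3, 3, 3, 3, 3, 0, 3, 3, 3, 3, 3, 0, 3, 3, 3, 3, 3, 0, 3, 3, 3, 3, 3, 0, 3, 3, 3, 3, 3, 0, 3, 3, 3, 3, 3, 0, 3, 3, 3, 3, 3, 0, 3, 3, 3, 3, 3, 0, 3, 3, 3, 3, 3], [])]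

/-- the attempts: a relation and a probe -/
def attempts : List (ℕ × ℕ) :=
  [(0, 23), (0, 1), (1, 1), (1, 23), (2, 23), (3, 1), (1, 5)]

end Cfsg.Agent.Lie.ConwayOneOut
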