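import Cfsg.Agent.Lib.Lie.ConwayOneOut.Blocks

/-!
Candidates breaking relations, one part of four.
-/

set_option autoImplicit false
set_option maxRecDepth 100000
set_option Elab.async false

namespace Cfsg.Agent.Lie.ConwayOneOut

theorem block_t3 : block true 3 = true := by decide +kernel

theorem block_t4 : block true 4 = true := by decide +kernel

theorem block_t5 : block true 5 = true := by decide +kernel

end Cfsg.Agent.Lie.ConwayOneOut
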