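import Cfsg.Agent.Lib.Lie.ConwayOneOut.Exclude0
import Cfsg.Agent.Lib.Lie.ConwayOneOut.Exclude1
import Cfsg.Agent.Lib.Lie.ConwayOneOut.Exclude2
import Cfsg.Agent.Lib.Lie.ConwayOneOut.Exclude3

/-!
Every candidate for the image of the two generators breaks a relation, except the generators themselves.
-/

set_option autoImplicit false

namespace Cfsg.Agent.Lie.ConwayOneOut

theorem blocks (flip : Bool) : ∀ a < 6, block flip a = true := by
  intro a ha
  cases flip <;> interval_cases a
  · exact block_f0
  · exact block_f1
  · exact block_f2
  · exact block_f3
  · exact block_f4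
  · exact block_f5
  · exact block_t0
  · exact block_t1
  · exact block_t2
  · exact block_t3
  · exact block_t4
  · exact block_t5

end Cfsg.Agent.Lie.ConwayOneOut
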