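import Cfsg.Agent.Lib.Lie.ConwayOneOut.Centralizers
import Cfsg.Agent.Lib.Lie.ConwayOneOut.Exclude
import Cfsg.Agent.Lib.Lie.OutCriterion

/-!
The outer automorphism group of the first Conway group is trivial.
-/

set_option autoImplicit false
set_option maxRecDepth 100000

namespace Cfsg.Agent.Lie.ConwayOneOut

open Cfsg Cfsg.Agent.Spor CentralRewrite ConwayZeroMult SuzukiMult

variable {g : ℕ → ↥Co0}

/-- The quotient by the centre. -/
abbrev CoOne : Type := ↥Co0 ⧸ Subgroup.center ↥Co0
local notation "Zv" => GolayPt → ℤ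

/-- Equal images, lifted. -/
theorem lift_eq (hg : Acts oneW g) {a b : ↥Co0}
    (h : QuotientGroup.mk' (Subgroup.center ↥Co0) a = QuotientGroup.mk' (Subgroup.center ↥Co0) b) :
    a = b ∨ a = g 13 * b := by
  rw [QuotientGroup.mk'_apply, QuotientGroup.mk'_apply, QuotientGroup.eq] at h
  rcases central_cases hg h with e | e
  · exact Or.inl (inv_mul_eq_one.1 e)
  · have hb : b = a * g 13 := by rw [← e, mul_inv_cancel_left]
    refine Or.inr ?_
    have h13 : g 13 * g 13 = 1 := co0_ext fun v => by
      rw [mul_smul, neg_act hg, neg_act hg, smul_smul, one_smul]; simp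
    rw [hb, ← mul_assoc, ← Subgroup.mem_center_iff.1 (neg_central hg) a, mul_assoc, h13, mul_one]

theorem neg_sq (hg : Acts oneW g) : g 13 * g 13 = 1 := co0_ext fun v => by
  rw [mul_smul, neg_act hg, neg_act hg, smul_smul, one_smul]; simp

theorem neg_ne (hg : Acts oneW g) : g 13 ≠ 1 := by
  intro e
  have h := neg_act hg (e8 none)
  rw [e, one_smul] at h
  have := congrFun h none
  simp [e8] at this

/-- An equation between odd powers lifts. -/
theorem lift_odd (hg : Acts oneW g) {a b : ↥Co0} {m : ℕ} (hm : m % 2 = 1) (ha : a ^ m = 1) (hb : b ^ m = 1)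
    (h : QuotientGroup.mk' (Subgroup.center ↥Co0) a = QuotientGroup.mk' (Subgroup.center ↥Co0) b) : a = b := by
  rcases lift_eq hg h with e | e
  · exact e
  · exfalso
    have hc : Commute (g 13) b := (Subgroup.mem_center_iff.1 (neg_central hg) b).symm
    rw [e, hc.mul_pow, hb, mul_one, ← Nat.mod_add_div m 2, hm, pow_add, pow_mul, pow_two, neg_sq hg, one_pow,
      mul_one, pow_one] at ha
    exact neg_ne hg ha

theorem invW_spec (hg : Acts oneW g) : ∀ c : List ℕ, (∀ j ∈ c, j ∈ [4, 5, 10]) → lval g (invW c) * lval g c = 1 := by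
  intro c
  induction c with
  | nil => intro _; simp [invW, lval]
  | cons j c ih =>
    intro h
    have hj : g (invL j) * g j = 1 := by
      have := h j List.mem_cons_self
      simp only [List.mem_cons, List.not_mem_nil, or_false] at this
      rcases this with rfl | rfl | rfl
      · have := rel_at hg 4 (by decide +kernel)
        rw [show relsW.getD 4 ([], []) = ([11, 4], []) by decide +kernel] at this
        simpa [lval, invL] using this
      · have := rel_at hg 8 (by decide +kernel)
        rw [show relsW.getD 8 ([], []) = ([5, 5], []) by decide +kernel] at this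
        simpa [lval, invL] using this
      · have := rel_at hg 6 (by decide +kernel)
        rw [show relsW.getD 6 ([], []) = ([12, 10], []) by decide +kernel] at this
        simpa [lval, invL] using this
    have e : invW (j :: c) = invW c ++ [invL j] := by simp [invW]
    rw [e, lval_append, lval_one, lval_cons, mul_assoc, ← mul_assoc (g (invL j)), hj, one_mul]
    exact ih fun i hi => h i (List.mem_cons_of_mem _ hi)

theorem centW_meta : ∀ c ∈ centW, (∀ j ∈ c, j ∈ [4, 5, 10]) ∧ ∃ a : Fin 6, ∃ e : Fin 2, ∃ m : Fin 11,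
    c = List.replicate (a : ℕ) 10 ++ List.replicate (e : ℕ) 5 ++ List.replicate (m : ℕ) 4 := by
  intro c hc
  obtain ⟨h, hh, hc⟩ := List.mem_flatMap.1 hc
  obtain ⟨e, he, hc⟩ := List.mem_flatMap.1 hc
  obtain ⟨m, hm, rfl⟩ := List.mem_map.1 hc
  have hh' : ∃ a : Fin 6, h.1 = List.replicate (a : ℕ) 10 := by
    have : ∀ h ∈ hW.filter (fun h => Nat.beq h.2 1), ∃ a : Fin 6, h.1 = List.replicate (a : ℕ) 10 := by
      decide +kernel
    exact this h hh
  obtain ⟨a, ha⟩ := hh'
  rw [ha]
  refine ⟨fun j hj => ?_, a, ⟨e, List.mem_range.1 he⟩, ⟨m, List.mem_range.1 hm⟩, rfl⟩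
  simp only [List.mem_append, List.mem_replicate] at hj
  rcases hj with (⟨-, rfl⟩ | ⟨-, rfl⟩) | ⟨-, rfl⟩ <;> simp

/-- The value of a substituted word. -/
theorem lval_subst (sub : ℕ → List ℕ) : ∀ w : List ℕ, lval g (w.flatMap sub) = (w.map fun j => lval g (sub j)).prod := by
  intro w
  induction w with
  | nil => rfl
  | cons j w ih => rw [List.flatMap_cons, lval_append, ih, List.map_cons, List.prod_cons]

theorem moved_spec (hg : Acts oneW g) {w : List ℕ} (hw : ∀ j ∈ w, j < oneW.length) {q : ℕ} (hq : q < 24)
    (h : moved w q = true) : lval g w ≠ 1 ∧ lval g w ≠ g 13 := by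
  simp only [moved, forceL_eq, Bool.and_eq_true, Bool.not_eq_true', beq_eq_false_iff_ne, ne_eq] at h
  have hrow : rowOf (e8 (pt q) : Zv) = unitL q := by
    have hall : ∀ q : Fin 24, rowOf (Pi.single (pt q) 8 : GolayPt → ℤ) = unitL q := by decide +kernel
    exact hall ⟨q, hq⟩
  have e := lval_row hg w hw (e8 (pt q))
  rw [hrow] at e
  refine ⟨fun e1 => h.1 ?_, fun e1 => h.2 ?_⟩
  · rw [← e, e1, one_smul, hrow]
  · rw [← e, e1, neg_act hg, ← hrow]
    simp [rowOf]

theorem out_card : Nat.card (Cfsg.Out CoOne) = 1 := by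
  haveI := co0_finite
  obtain ⟨g, hg⟩ := exists_gens one_mats
  change Acts oneW g at hg
  set mk := QuotientGroup.mk' (Subgroup.center ↥Co0) with hmk
  have hinv0 : g 1 * g 0 = 1 := by
    have := rel_at hg 0 (by decide +kernel)
    rw [show relsW.getD 0 ([], []) = ([1, 0], []) by decide +kernel] at this
    simpa [lval] using this
  have hinv2 : g 3 * g 2 = 1 := by
    have := rel_at hg 2 (by decide +kernel)
    rw [show relsW.getD 2 ([], []) = ([3, 2], []) by decide +kernel] at this
    simpa [lval] using this
  have h24 : g 2 * g 4 = g 4 * g 2 := by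
    have := rel_at hg 33 (by decide +kernel)
    rw [show relsW.getD 33 ([], []) = ([2, 4], [4, 2]) by decide +kernel] at this
    simpa [lval] using this
  have hx23 : g 0 ^ 23 = 1 := by rw [← shift_order hg]; exact pow_orderOf_eq_one _
  have hx : orderOf (mk (g 0)) = 23 := by
    haveI : Fact (Nat.Prime 23) := ⟨by norm_num⟩
    refine orderOf_eq_prime (by rw [← map_pow, hx23, map_one]) fun e => ?_
    rw [← map_one mk] at e
    have := lift_odd hg (m := 23) rfl hx23 (one_pow _) e
    have ho := shift_order hg
    rw [this, orderOf_one] at ho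
    norm_num at ho
  let F : OutCriterion.Frame CoOne :=
    { x := mk (g 0)
      n := mk (g 4)
      y := mk (g 2)
      p := 23
      prime := by norm_num
      once := by rw [card_co1]; norm_num
      order := hx
      r := 2
      norm := by rw [← map_pow, ← map_mul, ← map_mul, shift_norm hg]
      gen := by
        have := congrArg (Subgroup.map mk) (closure_top hg)
        rwa [MonoidHom.map_closure, Set.image_pair, Subgroup.map_top_of_surjective _
          (QuotientGroup.mk'_surjective _)] at this
      cosets := by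
        intro q hq
        obtain ⟨k, rfl⟩ := QuotientGroup.mk'_surjective _ q
        rw [← map_pow, ← map_mul, ← map_mul] at hq
        have hk : k * g 0 * k⁻¹ = g 0 ^ 2 := by
          refine lift_odd hg (m := 23) rfl (by rw [conj_pow, hx23]; simp) (by rw [← pow_mul, mul_comm, pow_mul, hx23, one_pow]) ?_
          change mk (k * g 0 * k⁻¹) = mk (g 0 ^ 2)
          change mk (k * g 0) = mk (g 0 ^ 2 * k) at hq
          rw [map_mul, hq, ← map_mul, mul_inv_cancel_right]
        obtain ⟨a, z, hz, rfl⟩ := norm_cases hg (mul_inv_eq_iff_eq_mul.1 hk)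
        refine ⟨2 * a, ?_⟩
        have hz1 : mk z = 1 := (QuotientGroup.eq_one_iff z).2 hz
        have hs : SemiconjBy (g 4) (g 0 ^ a) ((g 0 ^ 2) ^ a) := SemiconjBy.pow_right (shift_norm hg) a
        rw [map_mul, hz1, mul_one, hs.eq, ← pow_mul, map_mul, map_pow]
      c := 22
      d := 22
      c_inv := by norm_num
      classes := by
        have : ∀ i : Fin 23, (i : ℕ) ≠ 0 → ∃ m : Fin 23, (i : ℕ) * 2 ^ (m : ℕ) % 23 = 1 ∨
            (i : ℕ) * 2 ^ (m : ℕ) % 23 = 22 := by decide +kernel
        exact fun i hi h0 => this ⟨i, hi⟩ h0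
      shift := by
        have : ∀ i : Fin 23, ∃ a : Fin 23, ((a : ℕ) + i) % 23 = (a : ℕ) * 2 % 23 := by decide +kernel
        exact fun i hi => this ⟨i, hi⟩ }
  refine OutCriterion.card_eq_one F fun β hn hbx => ?_
  show β (mk (g 0)) = mk (g 0) ∧ β (mk (g 2)) = mk (g 2)
  change β (mk (g 4)) = mk (g 4) at hn
  change β (mk (g 0)) = mk (g 0) ∨ β (mk (g 0)) = mk (g 0) ^ 22 at hbx
  obtain ⟨k, hk⟩ := QuotientGroup.mk'_surjective _ (β (mk (g 2)))
  have hk' : mk k = β (mk (g 2)) := hk
  have hkn : k * g 4 = g 4 * k := by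
    have hcomm : mk k * mk (g 4) = mk (g 4) * mk k := by
      rw [hk', ← hn, ← map_mul, ← map_mul, ← map_mul, ← map_mul, h24]
    refine mul_inv_eq_iff_eq_mul.1 (lift_odd hg (m := 11) rfl (by rw [conj_pow, turn_order hg]; simp) (turn_order hg) ?_)
    rw [map_mul, map_mul, hcomm, map_inv, mul_inv_cancel_right]
  obtain ⟨c, hc, rfl⟩ := cent_cases hg hkn
  obtain ⟨hletters, a, e, m, hcw⟩ := centW_meta c hc
  obtain ⟨flip, hflip⟩ : ∃ flip : Bool, β (mk (g 0)) = mk (g (bif flip then 1 else 0)) := by
    rcases hbx with h | h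
    · exact ⟨false, h⟩
    · refine ⟨true, h.trans ?_⟩
      rw [← map_pow]
      congr 1
      rw [cond_true, eq_inv_of_mul_eq_one_left hinv0]
      exact eq_inv_of_mul_eq_one_left (by rw [← pow_succ, hx23])
  have hok := blocks flip a a.2
  simp only [block, List.all_eq_true, List.mem_range] at hok
  have hk2 := hok e e.2 m m.2
  rw [← hcw] at hk2
  simp only [candOK, Bool.or_eq_true, Bool.and_eq_true, Bool.not_eq_true'] at hk2
  rcases hk2 with hb | ⟨rfl, heq⟩
  · exfalso
    simp only [breaks, List.any_eq_true] at hb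
    obtain ⟨t, ht, hb⟩ := hb
    have hatt : ∀ t ∈ attempts, twoRels.getD t.1 ([], []) ∈ twoRels ∧ t.2 < 24 := by decide +kernel
    obtain ⟨hr, hq⟩ := hatt t ht
    generalize twoRels.getD t.1 ([], []) = r at hr hb
    have hrel := List.all_eq_true.1 two_rels r hr
    simp only [Bool.and_eq_true, Bool.or_eq_true, beq_iff_eq] at hrel
    have hrone : mk (lval g r.1) = 1 := by
      rw [eq_of_check hg hrel.1]
      rcases hrel.2 with h | h <;> rw [h]
      · exact map_one mk
      · rw [lval_one]; exact (QuotientGroup.eq_one_iff _).2 (neg_central hg)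
    have hr4 : ∀ r ∈ twoRels, ∀ j ∈ r.1, j < 4 := by decide +kernel
    have hclt : ∀ j ∈ c, j < oneW.length := fun j hj => by
      have h1 := hletters j hj
      have : ∀ j ∈ [4, 5, 10], j < oneW.length := by decide +kernel
      exact this j h1
    have hval : ∀ j < 4, mk (lval g (subL flip c j)) = β (mk (g j)) := by
      intro j hj
      have hx' : mk (lval g (subL flip c 0)) = β (mk (g 0)) := by
        rw [hflip]; cases flip <;> simp [subL, lval]
      have hy' : mk (lval g (subL flip c 2)) = β (mk (g 2)) := hk'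
      interval_cases j
      · exact hx'
      · rw [eq_inv_of_mul_eq_one_left hinv0, map_inv, map_inv, ← hx', ← map_inv]
        congr 1
        refine eq_inv_of_mul_eq_one_left ?_
        cases flip
        · simpa [subL, lval] using hinv0
        · simpa [subL, lval] using mul_eq_one_comm.1 hinv0
      · exact hy'
      · rw [eq_inv_of_mul_eq_one_left hinv2, map_inv, map_inv, ← hy', ← map_inv]
        congr 1
        exact eq_inv_of_mul_eq_one_left (invW_spec hg c hletters)
    have hsub : mk (lval g (r.1.flatMap (subL flip c))) = 1 := by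
      rw [lval_subst, map_list_prod, List.map_map]
      have e1 : (r.1.map (mk ∘ fun j => lval g (subL flip c j))) = r.1.map fun j => β (mk (g j)) :=
        List.map_congr_left fun j hj => hval j (hr4 r hr j hj)
      rw [e1]
      have e2 : β (mk (lval g r.1)) = 1 := by rw [hrone, map_one]
      rw [lval, map_list_prod, map_list_prod, List.map_map, List.map_map] at e2
      exact e2
    have hw : ∀ j ∈ r.1.flatMap (subL flip c), j < oneW.length := by
      intro j hj
      obtain ⟨i, hi, hj⟩ := List.mem_flatMap.1 hj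
      have h4 := hr4 r hr i hi
      have hl : ∀ j < 4, j < oneW.length := by decide +kernel
      interval_cases i
      · cases flip <;> simp [subL] at hj <;> subst hj <;> exact hl _ (by norm_num)
      · cases flip <;> simp [subL] at hj <;> subst hj <;> exact hl _ (by norm_num)
      · exact hclt j hj
      · simp only [subL, invW, List.mem_reverse, List.mem_map] at hj
        obtain ⟨q, hq, rfl⟩ := hj
        have : ∀ q ∈ [4, 5, 10], invL q < oneW.length := by decide +kernel
        exact this q (hletters q hq)
    have h2 : lval g (r.1.flatMap (subL flip c)) ≠ 1 ∧ lval g (r.1.flatMap (subL flip c)) ≠ g 13 := by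
      exact moved_spec hg hw hq hb
    rcases central_cases hg ((QuotientGroup.eq_one_iff _).1 hsub) with h | h
    · exact h2.1 h
    · exact h2.2 h
  · refine ⟨hflip, ?_⟩
    rw [← hk']
    rcases heq with h | h
    · rw [eq_of_check hg h, lval_one]
    · have hz : mk (g 13) = 1 := (QuotientGroup.eq_one_iff _).2 (neg_central hg)
      rw [eq_of_check hg h, lval_cons, lval_one, map_mul, hz, one_mul]

end Cfsg.Agent.Lie.ConwayOneOut
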