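import Cfsg.Agent.Lib.Lie.SuzukiMult.Defs
import Cfsg.Agent.Lib.Lie.ConwayZeroMult.Pieces
import Cfsg.Agent.Lib.Lie.ConwayOneOut.Data

/-!
The matrices are automorphisms, the words satisfy their relations, and the monomial ones are as listed.
-/

set_option autoImplicit false
set_option maxRecDepth 100000
set_option Elab.async false

namespace Cfsg.Agent.Lie.ConwayOneOut

open Cfsg Cfsg.Agent.Spor CentralRewrite ConwayZeroMult SuzukiMult

/-- A monomial matrix. -/
def monoRows (l : List ℕ) (c : ℕ) : List Row :=
  (List.range 24).map fun k => [(l.getD k 0, bif Nat.testBit c k then -8 else 8)]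

/-- A listed monomial matrix is as said. -/
def monoOK (e : ℕ × List ℕ × ℕ) : Bool :=
  Nat.blt e.1 oneW.length && (oneW.getD e.1 ([], [])).1 == monoRows e.2.1 e.2.2 &&
    (e.2.1.all fun a => Nat.blt a 24) && Nat.beq e.2.1.length 24

theorem one_mats : oneW.all matOK = true := by
  refine mats_of (m := 31) (by decide +kernel) fun i hi => ?_
  interval_cases i <;> decide +kernel

theorem one_rels : (relsW.all fun r => eqOK oneW r.1 r.2) = true := by decide +kernel

theorem one_monos : monoW.all monoOK = true := by decide +kernel

theorem hW_turn : (hW.all fun h => eqOK oneW (h.1 ++ [4]) (List.replicate h.2 4 ++ h.1)) = true := by decide +kernel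

theorem two_rels : (twoRels.all fun r => eqOK oneW r.1 r.2 && (r.2 == [] || r.2 == [13])) = true := by
  decide +kernel

end Cfsg.Agent.Lie.ConwayOneOut
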