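import Cfsg.Agent.Lib.Lie.ConwayOneOut.Mats
import Cfsg.Agent.Lib.Spor.Co1Simple

/-!
Monomial automorphisms among the matrices, and generation of Co0 by the translation and an element centralising
the element of order eleven.
-/

set_option autoImplicit false
set_option maxRecDepth 100000

namespace Cfsg.Agent.Lie.ConwayOneOut

open Cfsg Cfsg.Agent.Spor CentralRewrite ConwayZeroMult SuzukiMult

local notation "Zv" => GolayPt → ℤ

/-- Multiplication by two. -/
def mulTwo : Equiv.Perm GolayPt :=
  Equiv.optionCongr ⟨fun i : ZMod 23 => 2 * i, fun i => 12 * i, by unfold Function.LeftInverse; decide +kernel,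
    by unfold Function.RightInverse Function.LeftInverse; decide +kernel⟩

/-- An automorphism acts as a permutation with signs. -/
def MonoAct (k : ↥Co0) (σ : Equiv.Perm GolayPt) (w : GolayPt → ZMod 2) : Prop :=
  ∀ v : ↥leechLattice, ((k • v : ↥leechLattice) : Zv) = sgn w (prm σ (v : Zv))

theorem sgn_zero' (x : Zv) : sgn 0 x = x := funext fun p => by simp [sgn]

theorem prm_one' (x : Zv) : prm 1 x = x := funext fun p => by simp [prm, Equiv.Perm.one_def]

theorem dot_single (j : ℕ) (a : ℤ) : ∀ v : List ℤ, dot [(j, a)] v = a * v.getD j 0 := by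
  intro v
  simp only [dot]
  rcases h : v.drop j with _ | ⟨b, t⟩
  · rw [List.getD_eq_default _ _ (List.drop_eq_nil_iff.1 h)]; simp
  · have hj : j < v.length := by
      by_contra hn
      rw [List.drop_eq_nil_iff.2 (not_lt.1 hn)] at h
      simp at h
    rw [List.drop_eq_getElem_cons hj] at h
    simp only [List.cons.injEq] at h
    rw [List.getD_eq_getElem _ _ hj, h.1]
    simp [dot]

variable {g : ℕ → ↥Co0}

theorem mono_act (hg : Acts oneW g) {j c : ℕ} {l : List ℕ} (h : (j, l, c) ∈ monoW) {σ : Equiv.Perm GolayPt}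
    (hσ : ∀ p, σ (pt (l.getD (idx p) 0)) = p) : MonoAct (g j) σ (ofMaskW c) := by
  have hok := List.all_eq_true.1 one_monos _ h
  simp only [monoOK, Bool.and_eq_true, Nat.blt_eq, beq_iff_eq, List.all_eq_true] at hok
  obtain ⟨⟨⟨hj, hK⟩, hl⟩, hlen⟩ := hok
  have hlen' : l.length = 24 := Nat.eq_of_beq_eq_true (by simpa using hlen)
  intro v
  funext p
  have hlp : l.getD (idx p) 0 < 24 := by
    rw [List.getD_eq_getElem _ _ (hlen'.symm ▸ idx_lt p)]
    exact hl _ (List.getElem_mem _)
  have e : rowOf ((g j • v : ↥leechLattice) : Zv) = _ := hg j hj v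
  have e1 := congrArg (fun r : List ℤ => r.getD (idx p) 0) e
  simp only [rowOf_get _ _ (idx_lt p), pt_idx, mv] at e1
  rw [List.getD_eq_getElem _ _ (by simpa using idx_lt p), List.getElem_map, List.getElem_range, hK, monoRows,
    List.getD_eq_getElem _ _ (by simpa using idx_lt p), List.getElem_map, List.getElem_range, dot_single,
    rowOf_get _ _ hlp] at e1
  rw [e1]
  have hs : σ.symm p = pt (l.getD (idx p) 0) := by rw [Equiv.symm_apply_eq, hσ p]
  simp only [sgn, prm, hs, ofMaskW]
  cases Nat.testBit c (idx p) <;> simp <;> omega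

theorem MonoAct.perm {k : ↥Co0} {σ : Equiv.Perm GolayPt} (h : MonoAct k σ (ofMaskW 0)) :
    ∀ v : ↥leechLattice, ((k • v : ↥leechLattice) : Zv) = prm σ (v : Zv) := fun v => by
  rw [h v, show ofMaskW 0 = 0 by funext p; simp [ofMaskW], sgn_zero']

theorem MonoAct.sign {k : ↥Co0} {w : GolayPt → ZMod 2} (h : MonoAct k 1 w) :
    ∀ v : ↥leechLattice, ((k • v : ↥leechLattice) : Zv) = sgn w (v : Zv) := fun v => by
  rw [h v, prm_one']

theorem genA_list : ∀ p, genA (pt ([22, 0, 1, 2, 3, 4, 5, 6, 7, 8, 9, 10, 11, 12, 13, 14, 15, 16, 17, 18, 19, 20,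
    21, 23].getD (idx p) 0)) = p := by decide +kernel

theorem mulTwo_list : ∀ p, mulTwo (pt ([0, 12, 1, 13, 2, 14, 3, 15, 4, 16, 5, 17, 6, 18, 7, 19, 8, 20, 9, 21, 10,
    22, 11, 23].getD (idx p) 0)) = p := by decide +kernel

theorem shift_act (hg : Acts oneW g) : ∀ v : ↥leechLattice, ((g 0 • v : ↥leechLattice) : Zv) = prm genA (v : Zv) :=
  MonoAct.perm (mono_act hg (by decide +kernel) genA_list)

theorem turn_act (hg : Acts oneW g) : ∀ v : ↥leechLattice, ((g 4 • v : ↥leechLattice) : Zv) = prm mulTwo (v : Zv) :=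
  MonoAct.perm (mono_act hg (by decide +kernel) mulTwo_list)

theorem id_list : ∀ p : GolayPt, (1 : Equiv.Perm GolayPt) (pt ((List.range 24).getD (idx p) 0)) = p := by
  decide +kernel

theorem sign_act (hg : Acts oneW g) {j c : ℕ} (h : (j, List.range 24, c) ∈ monoW) :
    ∀ v : ↥leechLattice, ((g j • v : ↥leechLattice) : Zv) = sgn (ofMaskW c) (v : Zv) :=
  MonoAct.sign (mono_act hg h id_list)

theorem neg_act (hg : Acts oneW g) : ∀ v : ↥leechLattice, ((g 13 • v : ↥leechLattice) : Zv) = (-1 : ℤ) • (v : Zv) := by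
  intro v
  rw [sign_act hg (c := 16777215) (by decide +kernel)]
  funext p
  have : ∀ p, ofMaskW 16777215 p = 1 := by decide +kernel
  simp [sgn, this]

theorem neg_central (hg : Acts oneW g) : g 13 ∈ Subgroup.center ↥Co0 := scalar_central _ (-1) (neg_act hg)

theorem central_cases (hg : Acts oneW g) {k : ↥Co0} (hk : k ∈ Subgroup.center ↥Co0) : k = 1 ∨ k = g 13 := by
  obtain ⟨e, he, hv⟩ := central_scalar hk
  rcases he with rfl | rfl
  · exact Or.inl (co0_ext fun v => by rw [hv, one_smul, one_smul])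
  · exact Or.inr (co0_ext fun v => by rw [hv, neg_act hg])

theorem rel_at (hg : Acts oneW g) (i : ℕ) (hi : i < relsW.length) :
    lval g (relsW.getD i ([], [])).1 = lval g (relsW.getD i ([], [])).2 := by
  rw [List.getD_eq_getElem _ _ hi]
  exact eq_of_check hg (List.all_eq_true.1 one_rels _ (List.getElem_mem hi))

theorem lval_one (j : ℕ) : lval g [j] = g j := by simp [lval]

theorem mem_closure_all (hg : Acts oneW g) : ∀ j ∈ [0, 1, 2, 3, 4, 7, 8, 11, 14, 15, 28, 29] ++
    ((List.range 12).map fun i => 16 + i), g j ∈ Subgroup.closure ({g 0, g 2} : Set ↥Co0) := by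
  set H := Subgroup.closure ({g 0, g 2} : Set ↥Co0)
  have h0 : g 0 ∈ H := Subgroup.subset_closure (Or.inl rfl)
  have h2 : g 2 ∈ H := Subgroup.subset_closure (Or.inr rfl)
  have inv : ∀ i a b, i < relsW.length → relsW.getD i ([], []) = ([a, b], []) → g b ∈ H → g a ∈ H := by
    intro i a b hi e hb
    have h := rel_at hg i hi
    rw [e] at h
    simp [lval] at h
    rw [eq_inv_of_mul_eq_one_left h]
    exact inv_mem hb
  have word : ∀ i a, i < relsW.length → (relsW.getD i ([], [])).1 = [a] →
      (∀ b ∈ (relsW.getD i ([], [])).2, g b ∈ H) → g a ∈ H := by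
    intro i a hi e hb
    have h := rel_at hg i hi
    rw [e, lval_one] at h
    rw [h]
    exact H.list_prod_mem fun y hy => by
      obtain ⟨b, hb', rfl⟩ := List.mem_map.1 hy
      exact hb b hb'
  have a1 := inv 0 1 0 (by decide +kernel) (by decide +kernel) h0
  have a3 := inv 2 3 2 (by decide +kernel) (by decide +kernel) h2
  have base : ∀ b ∈ [0, 1, 2, 3], g b ∈ H := by simp [h0, h2, a1, a3]
  have low : ∀ i a, i < relsW.length → (relsW.getD i ([], [])).1 = [a] →
      ((relsW.getD i ([], [])).2.all fun b => [0, 1, 2, 3].elem b) = true → g a ∈ H := fun i a hi e hb =>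
    word i a hi e fun b hb' => base b (by simpa [List.elem_iff] using List.all_eq_true.1 hb b hb')
  have a4 := low 9 4 (by decide +kernel) (by decide +kernel) (by decide +kernel)
  have a7 := low 12 7 (by decide +kernel) (by decide +kernel) (by decide +kernel)
  have a8 := low 13 8 (by decide +kernel) (by decide +kernel) (by decide +kernel)
  have a9 := low 14 9 (by decide +kernel) (by decide +kernel) (by decide +kernel)
  have a11 := inv 4 11 4 (by decide +kernel) (by decide +kernel) a4
  have a14 := inv 15 14 7 (by decide +kernel) (by decide +kernel) a7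
  have a15 := inv 16 15 8 (by decide +kernel) (by decide +kernel) a8
  have a30 : g 30 ∈ H := word 17 30 (by decide +kernel) (by decide +kernel) fun b hb => by
    have : ∀ b ∈ (relsW.getD 17 ([], [])).2, b = 9 := by decide +kernel
    rw [this b hb]; exact a9
  have top : ∀ b ∈ [0, 1, 4, 7, 8, 11, 14, 15, 30], g b ∈ H := by
    simp [h0, a1, a4, a7, a8, a11, a14, a15, a30]
  have high : ∀ i a, i < relsW.length → (relsW.getD i ([], [])).1 = [a] →
      ((relsW.getD i ([], [])).2.all fun b => [0, 1, 4, 7, 8, 11, 14, 15, 30].elem b) = true → g a ∈ H :=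
    fun i a hi e hb => word i a hi e fun b hb' => top b (by simpa [List.elem_iff] using List.all_eq_true.1 hb b hb')
  have a28 := high 30 28 (by decide +kernel) (by decide +kernel) (by decide +kernel)
  have a29 := high 31 29 (by decide +kernel) (by decide +kernel) (by decide +kernel)
  intro j hj
  rcases List.mem_append.1 hj with hj | hj
  · simp only [List.mem_cons, List.not_mem_nil, or_false] at hj
    rcases hj with rfl | rfl | rfl | rfl | rfl | rfl | rfl | rfl | rfl | rfl | rfl | rfl <;> assumption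
  · obtain ⟨i, hi, rfl⟩ := List.mem_map.1 hj
    have hc : ∀ i < 12, 18 + i < relsW.length ∧ (relsW.getD (18 + i) ([], [])).1 = [16 + i] ∧
        ((relsW.getD (18 + i) ([], [])).2.all fun b => [0, 1, 4, 7, 8, 11, 14, 15, 30].elem b) = true := by
      decide +kernel
    obtain ⟨c1, c2, c3⟩ := hc i (List.mem_range.1 hi)
    exact high _ _ c1 c2 c3

theorem mono_le (hg : Acts oneW g) : monoSub ≤ Subgroup.closure ({g 0, g 2} : Set ↥Co0) := by
  set H := Subgroup.closure ({g 0, g 2} : Set ↥Co0)
  have mem := mem_closure_all hg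
  let E : (GolayPt → ZMod 2) → Prop := fun w =>
    ∃ k ∈ H, ∀ v : ↥leechLattice, ((k • v : ↥leechLattice) : Zv) = sgn w (v : Zv)
  have hE : ∀ m ∈ codeMasks, E (ofMaskW m) := by
    apply xorSpan_induction
    · exact ⟨1, one_mem _, fun v => by
        rw [one_smul, show ofMaskW 0 = 0 by funext p; simp [ofMaskW], sgn_zero']⟩
    · rintro a b ⟨k, hk, ek⟩ ⟨k', hk', ek'⟩
      refine ⟨k * k', mul_mem hk hk', fun v => ?_⟩
      rw [mul_smul, ek, ek', sgn_add_word]
      congr 1
      funext p
      simp only [ofMaskW, Pi.add_apply, Nat.testBit_xor]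
      cases Nat.testBit a (idx p) <;> cases Nat.testBit b (idx p) <;> decide
    · intro m hm
      have hc : ∀ m ∈ codeBasis, ∃ i : Fin 12, (16 + i.val, List.range 24, m) ∈ monoW := by decide +kernel
      obtain ⟨i, hi⟩ := hc m hm
      exact ⟨g (16 + i.val), mem _ (List.mem_append_right _ (List.mem_map.2 ⟨i, List.mem_range.2 i.2, rfl⟩)),
        sign_act hg hi⟩
  have hP : ∀ σ ∈ M24, ∃ k ∈ H, ∀ v : ↥leechLattice, ((k • v : ↥leechLattice) : Zv) = prm σ (v : Zv) := by
    intro σ hσ
    rw [← genH_eq, genH] at hσ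
    induction hσ using Subgroup.closure_induction with
    | mem x hx =>
      rcases hx with rfl | rfl | rfl
      · exact ⟨g 0, mem _ (by decide +kernel), shift_act hg⟩
      · exact ⟨g 28, mem _ (by decide +kernel), MonoAct.perm (mono_act hg
          (l := [23, 22, 11, 15, 17, 9, 19, 13, 20, 5, 16, 2, 21, 7, 18, 3, 10, 4, 14, 6, 8, 12, 1, 0])
          (by decide +kernel) (by decide +kernel))⟩
      · exact ⟨g 29, mem _ (by decide +kernel), MonoAct.perm (mono_act hg
          (l := [0, 6, 4, 3, 18, 7, 2, 10, 12, 13, 20, 17, 9, 16, 22, 15, 8, 14, 1, 11, 21, 5, 19, 23])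
          (by decide +kernel) (by decide +kernel))⟩
    | one => exact ⟨1, one_mem _, fun v => by rw [one_smul, prm_one']⟩
    | mul a b _ _ ha hb =>
      obtain ⟨k, hk, ek⟩ := ha
      obtain ⟨k', hk', ek'⟩ := hb
      exact ⟨k * k', mul_mem hk hk', fun v => by rw [mul_smul, ek, ek']; rfl⟩
    | inv a _ ha =>
      obtain ⟨k, hk, ek⟩ := ha
      refine ⟨k⁻¹, inv_mem hk, fun v => ?_⟩
      have e := ek (k⁻¹ • v)
      rw [smul_inv_smul] at e
      funext p
      have := congrFun e (a p)
      simp only [prm, Equiv.symm_apply_apply] at this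
      simp only [prm, Equiv.Perm.inv_def, Equiv.symm_symm]
      exact this.symm
  intro k hk
  obtain ⟨σ, hσ, w, hw, e⟩ := std_form (mem_monoSub.1 hk)
  obtain ⟨a, ha, ea⟩ := hP σ hσ
  obtain ⟨b, hb, eb⟩ := hE _ (mem_code.1 hw)
  have hwm : ofMaskW (wmask w) = w := support₂_injective (by rw [support₂_ofMaskW, wmask, ofMask_mask])
  have : k = b * a := co0_ext fun v => by rw [e, mul_smul, eb, ea, hwm]
  rw [this]
  exact mul_mem hb ha

theorem second_outside (hg : Acts oneW g) : g 2 ∉ monoSub := by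
  intro h
  obtain ⟨i, s, hs, e⟩ := mem_monoSub.1 h (e8 none) (e8_std none)
  have e' : rowOf ((g 2 • e8 none : ↥leechLattice) : Zv) = mv (oneW.getD 2 ([], [])).1 (rowOf (e8 none : Zv)) :=
    hg 2 (by decide +kernel) _
  have hc : ∀ (i : GolayPt), rowOf (Pi.single i 8 : Zv) ≠ mv (oneW.getD 2 ([], [])).1 (rowOf (Pi.single none 8 : Zv)) ∧
      rowOf (Pi.single i (-8) : Zv) ≠ mv (oneW.getD 2 ([], [])).1 (rowOf (Pi.single none 8 : Zv)) := by
    decide +kernel
  rw [e] at e'
  rcases hs with rfl | rfl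
  · exact (hc i).1 e'
  · exact (hc i).2 e'

theorem closure_top (hg : Acts oneW g) : Subgroup.closure ({g 0, g 2} : Set ↥Co0) = ⊤ :=
  monoSub_coatom.2 _ (lt_of_le_not_ge (mono_le hg) fun h => second_outside hg (h (Subgroup.subset_closure (Or.inr rfl))))

end Cfsg.Agent.Lie.ConwayOneOut
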